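import Groth.Prelude.Def_W4bk4git07Quot

/-!
# Basic properties of geometric and categorical quotients

A surjective morphism whose maps on sections are injective is an epimorphism of schemes; a morphism
`φ` with invariant functions as functions and with the closed-set separation property is a
categorical quotient; a geometric quotient has these properties.
-/

set_option autoImplicit false

universe u

open CategoryTheory CategoryTheory.Limits MonoidalCategory CartesianMonoidalCategory MonObj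
  AlgebraicGeometry Topology

namespace Groth.Agent.GITQuot

section Epi

variable {X Y Z : Scheme.{u}} (f : X ⟶ Y)

theorem map_map_self {A B : (TopologicalSpace.Opens X)ᵒᵖ} (i : A ⟶ B) (j : B ⟶ A)
    (r : X.presheaf.obj A) : X.presheaf.map j (X.presheaf.map i r) = r := by
  rw [← CommRingCat.comp_apply, ← X.presheaf.map_comp, Subsingleton.elim (i ≫ j) (𝟙 _),
    CategoryTheory.Functor.map_id]
  rfl

theorem hom_ext_of_surjective_of_injective (hs : Function.Surjective f.base)
    (hi : ∀ U : Y.Opens, Function.Injective (f.app U)) {a b : Y ⟶ Z} (h : f ≫ a = f ≫ b) :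
    a = b := by
  have hb : a.base = b.base := by
    ext y
    obtain ⟨x, rfl⟩ := hs y
    exact congrArg (fun k : X ⟶ Z => k.base x) h
  refine Scheme.Hom.ext hb fun U => ?_
  ext z
  apply hi (b ⁻¹ᵁ U)
  have hz := Scheme.Hom.congr_app h U
  have hzz := congrArg (fun k => (ConcreteCategory.hom k) z) hz
  simp only [Scheme.Hom.comp_app, CommRingCat.comp_apply] at hzz ⊢
  rw [← CommRingCat.comp_apply (Y.presheaf.map _), f.naturality, CommRingCat.comp_apply]
  refine (congrArg _ hzz).trans ?_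
  change _ = (Scheme.Hom.app f (b ⁻¹ᵁ U)) ((Scheme.Hom.app b U) z)
  exact map_map_self _ _ _

theorem restrict_injective (hi : ∀ U : Y.Opens, Function.Injective (f.app U)) (U : Y.Opens)
    (V : U.toScheme.Opens) : Function.Injective ((f ∣_ U).app V) := by
  intro p q h
  rw [morphismRestrict_app] at h
  simp only [CommRingCat.comp_apply] at h
  apply hi (U.ι ''ᵁ V)
  exact (ConcreteCategory.bijective_of_isIso (X.presheaf.map _)).1 h

theorem restrict_surjective (hs : Function.Surjective f.base) (U : Y.Opens) :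
    Function.Surjective (f ∣_ U).base := by
  rintro ⟨y, hy⟩
  obtain ⟨x, rfl⟩ := hs y
  exact ⟨⟨x, hy⟩, Subtype.ext (morphismRestrict_base_coe f U _)⟩

end Epi

variable {S : Scheme.{u}} {G X Y : Over S} [GrpObj G] {a : AlgGrp.Action G X} {φ : X ⟶ Y}

/-- `σ^* ψ^* = p₂^* ψ^*` for an invariant `ψ`. -/
theorem isInvSection_comp {Z : Over S} {ψ : X ⟶ Z} (hψ : GIT.IsInvariant a ψ) (U : Y.left.Opens)
    (V : Z.left.Opens) (e : φ.left ⁻¹ᵁ U ≤ ψ.left ⁻¹ᵁ V) (g : Γ(Z.left, V)) :
    GIT.IsInvSection a φ U (ψ.left.appLE V (φ.left ⁻¹ᵁ U) e g) := by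
  unfold GIT.IsInvSection
  rw [← CommRingCat.comp_apply, ← CommRingCat.comp_apply, Scheme.Hom.appLE_comp_appLE,
    Scheme.Hom.appLE_comp_appLE]
  congr 1
  have : ∀ (k k' : (G ⊗ X).left ⟶ Z.left) (_ : k = k') (W : (G ⊗ X).left.Opens) (e₁ : W ≤ k ⁻¹ᵁ V)
      (e₂ : W ≤ k' ⁻¹ᵁ V), k.appLE V W e₁ = k'.appLE V W e₂ := by
    rintro k _ rfl W e₁ e₂; rfl
  rw [this _ _ hψ.left]

theorem app_range (h : ∀ U : Y.left.Opens, Function.Injective (φ.left.app U) ∧
      Set.range (φ.left.app U) = {f | GIT.IsInvSection a φ U f}) (U : Y.left.Opens) :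
    ∀ f, GIT.IsInvSection a φ U f → ∃ g, φ.left.app U g = f := fun f hf => by
  have := (h U).2.ge hf
  exact this

/-- An invariant morphism maps invariant closed sets to invariant closed sets. -/
theorem invariant_compl_preimage {Z : Over S} {ψ : X ⟶ Z} (hψ : GIT.IsInvariant a ψ)
    (s : Set Z.left) :
    a.act.left.base '' ((snd G X).left.base ⁻¹' (ψ.left.base ⁻¹' s)) ⊆ ψ.left.base ⁻¹' s := by
  rintro _ ⟨p, hp, rfl⟩
  have : ψ.left.base (a.act.left.base p) = ψ.left.base ((snd G X).left.base p) :=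
    congrArg (fun k : (G ⊗ X).left ⟶ Z.left => k.base p) hψ.left
  simpa [this] using hp

theorem surjective_of_inter
    (hiii' : ∀ (J : Type u) (W : J → Set X.left),
      (∀ i, IsClosed (W i) ∧ a.act.left.base '' ((snd G X).left.base ⁻¹' W i) ⊆ W i) →
      φ.left.base '' (⋂ i, W i) = ⋂ i, φ.left.base '' W i) :
    Function.Surjective φ.left.base := by
  have := hiii' PEmpty (fun i => i.elim) (fun i => i.elim)
  simp only [Set.iInter_of_empty, Set.image_univ] at this
  exact Set.range_eq_univ.mp this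

theorem isQuotientMap_of_closed (hi : GIT.IsInvariant a φ)
    (hiii : ∀ W : Set X.left, IsClosed W → a.act.left.base '' ((snd G X).left.base ⁻¹' W) ⊆ W →
      IsClosed (φ.left.base '' W))
    (hs : Function.Surjective φ.left.base) :
    IsQuotientMap φ.left.base := by
  rw [isQuotientMap_iff_isClosed]
  refine ⟨hs, fun s => ⟨fun h => h.preimage φ.left.base.hom.continuous, fun h => ?_⟩⟩
  have := hiii (φ.left.base ⁻¹' s) h (invariant_compl_preimage hi s)
  rwa [Set.image_preimage_eq s hs] at this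

/-- The criterion: invariant functions, closed images and intersections give a categorical
quotient. -/
theorem isCatQuot_of (hi : GIT.IsInvariant a φ)
    (hii : ∀ U : Y.left.Opens,
      Function.Injective (φ.left.app U) ∧ Set.range (φ.left.app U) = {f | GIT.IsInvSection a φ U f})
    (hiii : ∀ W : Set X.left, IsClosed W → a.act.left.base '' ((snd G X).left.base ⁻¹' W) ⊆ W →
      IsClosed (φ.left.base '' W))
    (hiii' : ∀ (J : Type u) (W : J → Set X.left),
      (∀ i, IsClosed (W i) ∧ a.act.left.base '' ((snd G X).left.base ⁻¹' W i) ⊆ W i) →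
      φ.left.base '' (⋂ i, W i) = ⋂ i, φ.left.base '' W i) :
    GIT.IsCatQuot a φ := by
  have hs := surjective_of_inter hiii'
  refine ⟨hi, fun Z ψ hψ => ?_⟩
  have huniq : ∀ {T : Scheme.{u}} {p q : Y.left ⟶ T}, φ.left ≫ p = φ.left ≫ q → p = q :=
    fun h => hom_ext_of_surjective_of_injective φ.left hs (fun U => (hii U).1) h
  let W : Z.left.affineOpens → Set X.left := fun V => ψ.left.base ⁻¹' (V.1 : Set Z.left)ᶜ
  have hWc : ∀ V, IsClosed (W V) := fun V =>
    V.1.isOpen.isClosed_compl.preimage ψ.left.base.hom.continuous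
  have hWi : ∀ V, a.act.left.base '' ((snd G X).left.base ⁻¹' W V) ⊆ W V := fun V =>
    invariant_compl_preimage hψ _
  let U : Z.left.affineOpens → Y.left.Opens := fun V =>
    ⟨(φ.left.base '' W V)ᶜ, (hiii (W V) (hWc V) (hWi V)).isOpen_compl⟩
  have hU : ∀ V, φ.left ⁻¹ᵁ U V ≤ ψ.left ⁻¹ᵁ V.1 := fun V x hx => by
    by_contra hc
    exact hx ⟨x, hc, rfl⟩
  have hcov : ∀ y : Y.left, ∃ V, y ∈ U V := by
    intro y
    by_contra hc
    push Not at hc
    have hy : y ∈ ⋂ V, φ.left.base '' W V :=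
      Set.mem_iInter.mpr fun V => by simpa [U] using hc V
    rw [← hiii' _ W fun V => ⟨hWc V, hWi V⟩] at hy
    obtain ⟨x, hx, -⟩ := hy
    obtain ⟨V, hV, hxV, -⟩ := exists_isAffineOpen_mem_and_subset (x := ψ.left.base x)
      (U := ⊤) trivial
    exact Set.mem_iInter.mp hx ⟨V, hV⟩ hxV
  have hh : ∀ V : Z.left.affineOpens, ∃ h : Γ(Z.left, V.1) ⟶ Γ(Y.left, U V),
      h ≫ φ.left.app (U V) = ψ.left.appLE V.1 (φ.left ⁻¹ᵁ U V) (hU V) := by
    intro V
    have hr : ∀ g, ∃ k, φ.left.app (U V) k = ψ.left.appLE V.1 (φ.left ⁻¹ᵁ U V) (hU V) g :=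
      fun g => app_range hii _ _ (isInvSection_comp hψ _ _ (hU V) g)
    choose k hk using hr
    refine ⟨CommRingCat.ofHom
      { toFun := k
        map_one' := (hii _).1 (by rw [hk, map_one, map_one])
        map_zero' := (hii _).1 (by rw [hk, map_zero, map_zero])
        map_mul' := fun p q => (hii _).1 (by simp only [hk, map_mul])
        map_add' := fun p q => (hii _).1 (by simp only [hk, map_add]) }, ?_⟩
    ext g
    exact hk g
  choose h hh using hh
  let χ : ∀ V : Z.left.affineOpens, (U V).toScheme ⟶ Z.left := fun V =>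
    (U V).toSpecΓ ≫ Spec.map (h V) ≫ V.2.fromSpec
  have hχ : ∀ V, (φ.left ∣_ U V) ≫ χ V = (φ.left ⁻¹ᵁ U V).ι ≫ ψ.left := by
    intro V
    rw [← Scheme.Opens.toSpecΓ_naturality_assoc, ← Spec.map_comp_assoc, hh,
      Scheme.Opens.toSpecΓ_SpecMap_appLE_assoc, IsAffineOpen.toSpecΓ_fromSpec]
    simp
  let 𝒰 : Y.left.OpenCover :=
    { I₀ := Z.left.affineOpens
      X := fun V => (U V).toScheme
      f := fun V => (U V).ι
      mem₀ := by
        rw [Scheme.presieve₀_mem_precoverage_iff]
        refine ⟨fun y => ?_, inferInstance⟩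
        obtain ⟨V, hV⟩ := hcov y
        exact ⟨V, by simpa using hV⟩ }
  have hcompat : ∀ V V', pullback.fst (𝒰.f V) (𝒰.f V') ≫ χ V = pullback.snd _ _ ≫ χ V' := by
    intro V V'
    let j : pullback (𝒰.f V) (𝒰.f V') ⟶ Y.left := pullback.fst (𝒰.f V) (𝒰.f V') ≫ 𝒰.f V
    haveI : IsOpenImmersion (𝒰.f V) := inferInstanceAs (IsOpenImmersion (U V).ι)
    haveI : IsOpenImmersion (𝒰.f V') := inferInstanceAs (IsOpenImmersion (U V').ι)
    haveI : IsOpenImmersion j := inferInstanceAs (IsOpenImmersion (_ ≫ _))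
    rw [← cancel_epi j.isoOpensRange.inv]
    refine hom_ext_of_surjective_of_injective (φ.left ∣_ j.opensRange)
      (restrict_surjective _ hs _) (restrict_injective _ (fun U => (hii U).1) _) ?_
    have key : ∀ (V : Z.left.affineOpens) (k : j.opensRange.toScheme ⟶ (U V).toScheme)
        (_ : k ≫ (U V).ι = j.opensRange.ι),
        (φ.left ∣_ j.opensRange) ≫ k ≫ χ V = (φ.left ⁻¹ᵁ j.opensRange).ι ≫ ψ.left := by
      intro V k hk
      have hle : j.opensRange ≤ U V := by
        intro y hy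
        have := congrArg (fun t : j.opensRange.toScheme ⟶ Y.left => t.base ⟨y, hy⟩) hk
        simp at this
        rw [← this]
        exact (k.base ⟨y, hy⟩).2
      obtain rfl : k = Y.left.homOfLE hle := by
        rw [← cancel_mono (U V).ι, hk, Scheme.homOfLE_ι]
      have hsq : (φ.left ∣_ j.opensRange) ≫ Y.left.homOfLE hle =
          X.left.homOfLE (φ.left.preimage_mono hle) ≫ (φ.left ∣_ U V) := by
        rw [← cancel_mono (U V).ι]
        simp
      rw [reassoc_of% hsq, hχ]
      simp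
    have h1 := key V (j.isoOpensRange.inv ≫ pullback.fst (𝒰.f V) (𝒰.f V')) (by
      rw [Category.assoc]; exact Scheme.Hom.isoOpensRange_inv_comp j)
    have h2 := key V' (j.isoOpensRange.inv ≫ pullback.snd (𝒰.f V) (𝒰.f V')) (by
      rw [Category.assoc]
      refine Eq.trans ?_ (Scheme.Hom.isoOpensRange_inv_comp j)
      rw [show (U V').ι = 𝒰.f V' from rfl, ← pullback.condition])
    simpa only [Category.assoc] using h1.trans h2.symm
  let χ₀ : Y.left ⟶ Z.left := 𝒰.glueMorphisms χ hcompat
  have hφχ : φ.left ≫ χ₀ = ψ.left := by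
    refine Scheme.hom_ext_of_forall _ _ fun x => ?_
    obtain ⟨V, hV⟩ := hcov (φ.left.base x)
    refine ⟨φ.left ⁻¹ᵁ U V, hV, ?_⟩
    rw [← morphismRestrict_ι_assoc, show (U V).ι ≫ χ₀ = χ V from 𝒰.ι_glueMorphisms χ hcompat V, hχ]
  have hw : χ₀ ≫ Z.hom = Y.hom := huniq (by rw [reassoc_of% hφχ, Over.w, Over.w])
  refine ⟨Over.homMk χ₀ hw, Over.OverMorphism.ext hφχ, ?_⟩
  intro χ' hχ'
  refine Over.OverMorphism.ext (huniq ?_)
  have e : φ.left ≫ χ'.left = ψ.left := congrArg CommaMorphism.left hχ'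
  exact e.trans hφχ.symm

/-- Points of `X` over the same point of `Y` are in the same orbit. -/
theorem exists_orbit_point (h : GIT.IsGeomQuot a φ) {x x' : X.left}
    (hx : φ.left.base x = φ.left.base x') :
    ∃ p : (G ⊗ X).left, a.act.left.base p = x ∧ (snd G X).left.base p = x' := by
  obtain ⟨z, hz1, hz2⟩ := Scheme.Pullback.exists_preimage_pullback x x' hx
  obtain ⟨p, hp⟩ := h.orbit z
  refine ⟨p, ?_, ?_⟩
  · rw [← hz1, ← hp]
    change _ = (GIT.PsiY a φ h.inv ≫ pullback.fst φ.left φ.left).base p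
    rw [GIT.PsiY, pullback.lift_fst]
  · rw [← hz2, ← hp]
    change _ = (GIT.PsiY a φ h.inv ≫ pullback.snd φ.left φ.left).base p
    rw [GIT.PsiY, pullback.lift_snd]

/-- Invariant sets are saturated for a geometric quotient. -/
theorem preimage_image_of_invariant (h : GIT.IsGeomQuot a φ) {W : Set X.left}
    (hW : a.act.left.base '' ((snd G X).left.base ⁻¹' W) ⊆ W) :
    φ.left.base ⁻¹' (φ.left.base '' W) = W := by
  refine subset_antisymm ?_ (Set.subset_preimage_image _ _)
  rintro x ⟨x', hx', hx⟩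
  obtain ⟨p, rfl, hp⟩ := exists_orbit_point h hx.symm
  exact hW ⟨p, by simpa [← hp] using hx', rfl⟩

theorem isUnivSubmersive_isQuotientMap {X Y : Scheme.{u}} {f : X ⟶ Y}
    (h : GIT.IsUnivSubmersive f) : IsQuotientMap f.base :=
  MorphismProperty.universally_le (topologically @IsQuotientMap) f h

theorem isClosed_image_of_invariant (h : GIT.IsGeomQuot a φ) {W : Set X.left} (hc : IsClosed W)
    (hW : a.act.left.base '' ((snd G X).left.base ⁻¹' W) ⊆ W) :
    IsClosed (φ.left.base '' W) := by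
  have hq := isUnivSubmersive_isQuotientMap h.subm
  rw [← hq.isClosed_preimage, preimage_image_of_invariant h hW]
  exact hc

theorem image_iInter_of_invariant (h : GIT.IsGeomQuot a φ) (J : Type u) (W : J → Set X.left)
    (hW : ∀ i, IsClosed (W i) ∧ a.act.left.base '' ((snd G X).left.base ⁻¹' W i) ⊆ W i) :
    φ.left.base '' (⋂ i, W i) = ⋂ i, φ.left.base '' W i := by
  refine subset_antisymm (Set.image_iInter_subset _ _) fun y hy => ?_
  obtain ⟨x, rfl⟩ := h.surj y
  refine ⟨x, Set.mem_iInter.mpr fun i => ?_, rfl⟩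
  rw [← preimage_image_of_invariant h (hW i).2]
  exact Set.mem_iInter.mp hy i

theorem isCatQuot_of_isGeomQuot (h : GIT.IsGeomQuot a φ) : GIT.IsCatQuot a φ :=
  isCatQuot_of h.inv h.sections (fun _ => isClosed_image_of_invariant h)
    (image_iInter_of_invariant h)

theorem isUnivCatQuot_of_isUnivGeomQuot (h : GIT.IsUnivGeomQuot a φ) : GIT.IsUnivCatQuot a φ :=
  ⟨isCatQuot_of_isGeomQuot h.1, fun _ _ pr φ' g hg hP a' ha hi =>
    isCatQuot_of_isGeomQuot (h.2 pr φ' g hg hP a' ha hi)⟩

end Groth.Agent.GITQuot
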