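import Groth.Agent.GITQuot.Universal
import Mathlib.AlgebraicGeometry.Sites.Fpqc
import Mathlib.AlgebraicGeometry.Morphisms.Proper

/-!
# Descent of quotient properties along fpqc and proper surjective base changes
-/

set_option autoImplicit false

universe u

open CategoryTheory CategoryTheory.Limits MonoidalCategory CartesianMonoidalCategory MonObj
  AlgebraicGeometry Topology

namespace Groth.Agent.GITQuot

theorem isQuotientMap_universally_descend {X Y Y' : Scheme.{u}} (f : X ⟶ Y) (g : Y' ⟶ Y)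
    [Surjective g] (hg : IsProper g ∨ (Flat g ∧ QuasiCompact g))
    (h : MorphismProperty.universally (topologically @IsQuotientMap) (pullback.snd f g)) :
    MorphismProperty.universally (topologically @IsQuotientMap) f := by
  intro X₁ Y₁ i₁ i₂ f₁ sq
  let X₂ := pullback f₁ (pullback.fst i₂ g)
  have hq₂ : IsQuotientMap (pullback.fst i₂ g).base := by
    haveI : Surjective (pullback.fst i₂ g) :=
      MorphismProperty.pullback_fst (P := @Surjective) _ _ inferInstance
    rcases hg with hp | ⟨hf, hc⟩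
    · exact (pullback.fst i₂ g).isClosedMap.isQuotientMap (pullback.fst i₂ g).continuous
        (pullback.fst i₂ g).surjective
    · exact Flat.isQuotientMap_of_surjective _
  have hbig : IsPullback (pullback.snd f₁ (pullback.fst i₂ g))
      (pullback.lift (pullback.fst f₁ (pullback.fst i₂ g) ≫ i₁)
        (pullback.snd f₁ (pullback.fst i₂ g) ≫ pullback.snd i₂ g)
        (by rw [Category.assoc, ← sq.w, pullback.condition_assoc, pullback.condition,
          Category.assoc]))
      (pullback.snd i₂ g) (pullback.snd f g) := by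
    refine IsPullback.of_bot ?_ (by rw [pullback.lift_snd]) (IsPullback.of_hasPullback f g).flip
    rw [pullback.lift_fst, ← pullback.condition]
    exact ((IsPullback.of_hasPullback f₁ (pullback.fst i₂ g)).flip.paste_vert sq)
  have hq₁ := h _ _ _ hbig
  have hcomp : IsQuotientMap (pullback.fst f₁ (pullback.fst i₂ g) ≫ f₁).base := by
    rw [pullback.condition]
    exact hq₂.comp hq₁
  exact IsQuotientMap.of_comp (pullback.fst f₁ (pullback.fst i₂ g)).continuous f₁.continuous hcomp

variable {S : Scheme.{u}} {G X Y X' Y' : Over S} [GrpObj G] {a : AlgGrp.Action G X} {φ : X ⟶ Y}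

theorem psiY_surjective_descend (hi : GIT.IsInvariant a φ) {α : Y' ⟶ Y} [Surjective α.left]
    {pr : X' ⟶ X} {φ' : X' ⟶ Y'} (hP : IsPullback pr φ' φ α) (a' : AlgGrp.Action G X')
    (ha : a'.act ≫ pr = (G ◁ pr) ≫ a.act) (hi' : GIT.IsInvariant a' φ')
    (ho : Function.Surjective (GIT.PsiY a' φ' hi').base) :
    Function.Surjective (GIT.PsiY a φ hi).base := by
  have hP' := isPullback_left hP
  intro z
  obtain ⟨y', hy'⟩ := α.left.surjective ((pullback.fst φ.left φ.left ≫ φ.left).base z)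
  obtain ⟨q, hq, -⟩ := Scheme.Pullback.exists_preimage_pullback
    (f := pullback.fst φ.left φ.left ≫ φ.left) (g := α.left) z y' hy'.symm
  let A := pullback.fst (pullback.fst φ.left φ.left ≫ φ.left) α.left
  let B := pullback.snd (pullback.fst φ.left φ.left ≫ φ.left) α.left
  let l₁ : pullback (pullback.fst φ.left φ.left ≫ φ.left) α.left ⟶ X'.left :=
    hP'.lift (A ≫ pullback.fst φ.left φ.left) B (by
      rw [Category.assoc]
      exact pullback.condition)
  let l₂ : pullback (pullback.fst φ.left φ.left ≫ φ.left) α.left ⟶ X'.left :=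
    hP'.lift (A ≫ pullback.snd φ.left φ.left) B (by
      rw [Category.assoc, ← pullback.condition]
      exact pullback.condition)
  let L := pullback.lift (f := φ'.left) (g := φ'.left) l₁ l₂ (by simp [l₁, l₂])
  obtain ⟨p, hp⟩ := ho (L.base q)
  refine ⟨(G ◁ pr).left.base p, ?_⟩
  let M : pullback φ'.left φ'.left ⟶ pullback φ.left φ.left :=
    pullback.map _ _ _ _ pr.left pr.left α.left hP'.w.symm hP'.w.symm
  have h1 : (G ◁ pr).left ≫ GIT.PsiY a φ hi = GIT.PsiY a' φ' hi' ≫ M := by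
    apply pullback.hom_ext
    · simp only [GIT.PsiY, M, pullback.map, Category.assoc, pullback.lift_fst,
        pullback.lift_fst_assoc, ← Over.comp_left, ha]
    · simp only [GIT.PsiY, M, pullback.map, Category.assoc, pullback.lift_snd,
        pullback.lift_snd_assoc, ← Over.comp_left, whiskerLeft_snd]
  have h2 : L ≫ M = A := by
    apply pullback.hom_ext
    · simp only [L, M, pullback.map, Category.assoc, pullback.lift_fst, pullback.lift_fst_assoc]
      exact hP'.lift_fst _ _ _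
    · simp only [L, M, pullback.map, Category.assoc, pullback.lift_snd, pullback.lift_snd_assoc]
      exact hP'.lift_fst _ _ _
  have e1 := congrArg (fun k : (G ⊗ X').left ⟶ pullback φ.left φ.left => k.base p) h1
  have e2 := congrArg (fun k => k.base q) h2
  simp only [Scheme.Hom.comp_apply] at e1 e2
  rw [← hq]
  exact e1.trans ((congrArg _ hp).trans e2)

/-- `φ` is a categorical quotient if it is one after two steps of an fpqc base change. -/
theorem isCatQuot_descend (hi : GIT.IsInvariant a φ) {α : Y' ⟶ Y} [Flat α.left] [Surjective α.left]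
    [QuasiCompact α.left] {pr : X' ⟶ X} {φ' : X' ⟶ Y'} (hP : IsPullback pr φ' φ α)
    (a' : AlgGrp.Action G X') (ha : a'.act ≫ pr = (G ◁ pr) ≫ a.act)
    (hi' : GIT.IsInvariant a' φ') (h : GIT.IsUnivCatQuot a' φ') : GIT.IsCatQuot a φ := by
  have hP' := isPullback_left hP
  haveI : Flat pr.left := MorphismProperty.of_isPullback hP'.flip (inferInstance : Flat α.left)
  haveI : Surjective pr.left :=
    MorphismProperty.of_isPullback hP'.flip (inferInstance : Surjective α.left)
  haveI : QuasiCompact pr.left :=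
    MorphismProperty.of_isPullback hP'.flip (inferInstance : QuasiCompact α.left)
  refine ⟨hi, fun Z ψ hψ => ?_⟩
  have hψ' : GIT.IsInvariant a' (pr ≫ ψ) := by
    rw [GIT.IsInvariant, reassoc_of% ha, show a.act ≫ ψ = snd G X ≫ ψ from hψ,
      whiskerLeft_snd_assoc]
  obtain ⟨χ', hχ', -⟩ := h.1.2 Z (pr ≫ ψ) hψ'
  have key : ∀ {W : Scheme.{u}} (g₁ g₂ : W ⟶ Y'.left), g₁ ≫ α.left = g₂ ≫ α.left →
      g₁ ≫ χ'.left = g₂ ≫ χ'.left := by
    intro W g₁ g₂ w
    let W' : Over S := Over.mk (g₁ ≫ Y'.hom)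
    let k₁ : W' ⟶ Y' := Over.homMk g₁ rfl
    let k₂ : W' ⟶ Y' := Over.homMk g₂ (by
      change _ = g₁ ≫ Y'.hom
      rw [← Over.w α, ← reassoc_of% w])
    let X₁ : Over S := Over.mk (pullback.fst φ'.left g₁ ≫ X'.hom)
    let p₁ : X₁ ⟶ X' := Over.homMk (pullback.fst φ'.left g₁) rfl
    let φ₁ : X₁ ⟶ W' := Over.homMk (pullback.snd φ'.left g₁) (by
      change _ = pullback.fst φ'.left g₁ ≫ X'.hom
      rw [← Over.w φ', pullback.condition_assoc]
      rfl)
    have hP₁ : IsPullback p₁ φ₁ φ' k₁ :=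
      isPullback_of_left (IsPullback.of_hasPullback φ'.left g₁)
    obtain ⟨a₁, ha₁, hi₁⟩ := exists_action_baseChange hi' hP₁
    have hcat := h.2 p₁ φ₁ k₁ trivial hP₁ a₁ ha₁ hi₁
    have hk : k₁ ≫ α = k₂ ≫ α := Over.OverMorphism.ext w
    let p₂ : X₁ ⟶ X' := hP.lift (p₁ ≫ pr) (φ₁ ≫ k₂)
      (by rw [Category.assoc, hP.w, Category.assoc, reassoc_of% hP₁.w, hk])
    have e : φ₁ ≫ k₁ ≫ χ' = φ₁ ≫ k₂ ≫ χ' := by
      have e1 : φ₁ ≫ k₁ ≫ χ' = p₁ ≫ pr ≫ ψ := by rw [← reassoc_of% hP₁.w, hχ']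
      have e2 : p₂ ≫ φ' = φ₁ ≫ k₂ := hP.lift_snd _ _ _
      have e3 : p₂ ≫ pr = p₁ ≫ pr := hP.lift_fst _ _ _
      rw [e1, ← reassoc_of% e3, ← hχ', reassoc_of% e2]
    have hinv : GIT.IsInvariant a₁ (φ₁ ≫ k₂ ≫ χ') := by
      rw [GIT.IsInvariant, reassoc_of% (show a₁.act ≫ φ₁ = snd G X₁ ≫ φ₁ from hi₁)]
    exact congrArg CommaMorphism.left
      ((hcat.2 Z _ hinv).unique (y₁ := k₁ ≫ χ') (y₂ := k₂ ≫ χ') e rfl)
  let χ₀ : Y.left ⟶ Z.left := EffectiveEpi.desc α.left χ'.left key
  have hfac : α.left ≫ χ₀ = χ'.left := EffectiveEpi.fac α.left χ'.left key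
  let χ : Y ⟶ Z := Over.homMk χ₀ (by
    rw [← cancel_epi α.left, reassoc_of% hfac, Over.w χ', Over.w α])
  have hαχ : α ≫ χ = χ' := Over.OverMorphism.ext hfac
  refine ⟨χ, Over.OverMorphism.ext ?_, fun χ₁ hχ₁ => Over.OverMorphism.ext ?_⟩
  · rw [← cancel_epi pr.left, ← Over.comp_left, ← Over.comp_left, reassoc_of% hP.w, hαχ, hχ']
  · rw [← cancel_epi α.left, ← Over.comp_left, ← Over.comp_left, hαχ]
    refine congrArg CommaMorphism.left ((h.1.2 Z _ hψ').unique ?_ hχ')
    rw [← reassoc_of% hP.w, hχ₁]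

theorem isUnivGeomQuot_descend (hi : GIT.IsInvariant a φ) {α : Y' ⟶ Y} [Flat α.left]
    [Surjective α.left] [QuasiCompact α.left] {pr : X' ⟶ X} {φ' : X' ⟶ Y'}
    (hP : IsPullback pr φ' φ α) (a' : AlgGrp.Action G X')
    (ha : a'.act ≫ pr = (G ◁ pr) ≫ a.act) (hi' : GIT.IsInvariant a' φ')
    (h : GIT.IsUnivGeomQuot a' φ') : GIT.IsUnivGeomQuot a φ := by
  have hu : GIT.IsUnivCatQuot a φ := by
    refine ⟨isCatQuot_descend hi hP a' ha hi' (isUnivCatQuot_of_isUnivGeomQuot h), ?_⟩
    intro X₁ Y₁ p₁ φ₁ g _ hP₁ a₁ ha₁ hi₁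
    let Y₂ : Over S := Over.mk (pullback.fst g.left α.left ≫ Y₁.hom)
    let β : Y₂ ⟶ Y₁ := Over.homMk (pullback.fst g.left α.left) rfl
    let g₂ : Y₂ ⟶ Y' := Over.homMk (pullback.snd g.left α.left) (by
      change _ = pullback.fst g.left α.left ≫ Y₁.hom
      rw [← Over.w α, ← Over.w g, pullback.condition_assoc])
    haveI : Flat β.left := MorphismProperty.pullback_fst (P := @Flat) _ _ inferInstance
    haveI : Surjective β.left := MorphismProperty.pullback_fst (P := @Surjective) _ _ inferInstance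
    haveI : QuasiCompact β.left :=
      MorphismProperty.pullback_fst (P := @QuasiCompact) _ _ inferInstance
    let X₂ : Over S := Over.mk (pullback.fst φ₁.left β.left ≫ X₁.hom)
    let q₁ : X₂ ⟶ X₁ := Over.homMk (pullback.fst φ₁.left β.left) rfl
    let φ₂ : X₂ ⟶ Y₂ := Over.homMk (pullback.snd φ₁.left β.left) (by
      change _ = pullback.fst φ₁.left β.left ≫ X₁.hom
      rw [← Over.w φ₁, pullback.condition_assoc, Over.w β])
    have hP₂ : IsPullback q₁ φ₂ φ₁ β := isPullback_of_left (IsPullback.of_hasPullback φ₁.left β.left)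
    have hβ : β ≫ g = g₂ ≫ α := Over.OverMorphism.ext pullback.condition
    obtain ⟨a₂, ha₂, hi₂⟩ := exists_action_baseChange hi₁ hP₂
    let q' : X₂ ⟶ X' := hP.lift (q₁ ≫ p₁) (φ₂ ≫ g₂)
      (by rw [Category.assoc, hP₁.w, Category.assoc, reassoc_of% hP₂.w, hβ])
    have hsq : IsPullback q' φ₂ φ' g₂ := by
      refine IsPullback.of_right ?_ (hP.lift_snd _ _ _) hP
      rw [hP.lift_fst, ← hβ]
      exact hP₂.paste_horiz hP₁
    have ha' : a₂.act ≫ q' = (G ◁ q') ≫ a'.act := by
      apply hP.hom_ext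
      · rw [Category.assoc, hP.lift_fst, reassoc_of% ha₂, ha₁, Category.assoc, ha,
          ← MonoidalCategory.whiskerLeft_comp_assoc, ← MonoidalCategory.whiskerLeft_comp_assoc,
          hP.lift_fst]
      · rw [Category.assoc, hP.lift_snd, reassoc_of% (show a₂.act ≫ φ₂ = snd G X₂ ≫ φ₂ from hi₂),
          Category.assoc, show a'.act ≫ φ' = snd G X' ≫ φ' from hi', whiskerLeft_snd_assoc,
          hP.lift_snd]
    exact isCatQuot_descend hi₁ hP₂ a₂ ha₂ hi₂
      (isUnivCatQuot_baseChange (isUnivCatQuot_of_isUnivGeomQuot h) hsq a₂ ha' hi₂)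
  refine (isUnivGeomQuot_iff hu).mpr ⟨?_, psiY_surjective_descend hi hP a' ha hi' h.1.orbit⟩
  have hP' := isPullback_left hP
  refine isQuotientMap_universally_descend φ.left α.left (Or.inr ⟨inferInstance, inferInstance⟩) ?_
  have hs : GIT.IsUnivSubmersive φ'.left := h.1.subm
  rw [← hP'.isoPullback_inv_snd]
  exact ((MorphismProperty.universally (topologically @IsQuotientMap)).cancel_left_of_respectsIso
    _ _).mpr hs

end Groth.Agent.GITQuot
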