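import Groth.Agent.GITQuot.Descent
import Mathlib.AlgebraicGeometry.Morphisms.SchemeTheoreticallyDominant

/-!
# Descent of geometric quotients along faithfully flat quasi-compact base changes
-/

set_option autoImplicit false

universe u

open CategoryTheory CategoryTheory.Limits MonoidalCategory CartesianMonoidalCategory MonObj
  AlgebraicGeometry Topology

namespace Groth.Agent.GITQuot

theorem appLE_eq_of_eq {X Y : Scheme.{u}} {k k' : X ⟶ Y} (h : k = k') {V : Y.Opens} {W : X.Opens}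
    (e : W ≤ k ⁻¹ᵁ V) (e' : W ≤ k' ⁻¹ᵁ V) : k.appLE V W e = k'.appLE V W e' := by
  subst h; rfl

/-- The morphism to the affine line given by a function. -/
noncomputable def fnHom {X : Scheme.{u}} (f : Γ(X, ⊤)) :=
  (AffineSpace.toSpecMvPolyIntEquiv PUnit.{u + 1} (X := X)).symm fun _ => f

theorem comp_fnHom {X Y : Scheme.{u}} (m : X ⟶ Y) (f : Γ(Y, ⊤)) :
    m ≫ fnHom f = fnHom (m.appTop f) := by
  apply (AffineSpace.toSpecMvPolyIntEquiv PUnit.{u + 1} (X := X)).injective
  ext i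
  rw [AffineSpace.toSpecMvPolyIntEquiv_comp, fnHom, fnHom, Equiv.apply_symm_apply,
    Equiv.apply_symm_apply]

theorem fnHom_injective {X : Scheme.{u}} : Function.Injective (fnHom (X := X)) := fun f g h =>
  congrFun ((AffineSpace.toSpecMvPolyIntEquiv PUnit.{u + 1} (X := X)).symm.injective h) PUnit.unit

theorem appTop_injective_of_epi {X Y : Scheme.{u}} (m : X ⟶ Y) [Epi m] :
    Function.Injective m.appTop := fun f g h =>
  fnHom_injective ((cancel_epi m).mp (by rw [comp_fnHom, comp_fnHom, h]))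

theorem isSchemeTheoreticallyDominant_of_app_injective {X Y : Scheme.{u}} (f : X ⟶ Y)
    [QuasiCompact f] (h : ∀ U : Y.Opens, Function.Injective (f.app U)) :
    IsSchemeTheoreticallyDominant f := by
  constructor
  refine Scheme.IdealSheafData.ext (funext fun U => ?_)
  rw [Scheme.Hom.ker_apply]
  simpa using (RingHom.injective_iff_ker_eq_bot (f.app U.1).hom).mp (h U.1)

/-- A function on `X` coming from `Y'` comes from `Y`. -/
theorem exists_appTop_eq_of_descend {X Y Y' : Scheme.{u}} (φ : X ⟶ Y) (α : Y' ⟶ Y)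
    [Flat α] [Surjective α] [QuasiCompact α] [QuasiCompact φ] [IsSchemeTheoreticallyDominant φ]
    (f : Γ(X, ⊤)) (g : Γ(Y', ⊤))
    (h : (pullback.snd φ α).appTop g = (pullback.fst φ α).appTop f) :
    ∃ g₀, φ.appTop g₀ = f := by
  have key : ∀ {W : Scheme.{u}} (g₁ g₂ : W ⟶ Y'), g₁ ≫ α = g₂ ≫ α →
      g₁ ≫ fnHom g = g₂ ≫ fnHom g := by
    suffices pullback.fst α α ≫ fnHom g = pullback.snd α α ≫ fnHom g by
      intro W g₁ g₂ w
      rw [← pullback.lift_fst g₁ g₂ w, Category.assoc, this, pullback.lift_snd_assoc]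
    haveI : Flat (pullback.fst α α ≫ α) := inferInstance
    let φW := pullback.snd φ (pullback.fst α α ≫ α)
    haveI : IsSchemeTheoreticallyDominant φW :=
      IsSchemeTheoreticallyDominant.pullbackSnd φ (pullback.fst α α ≫ α)
    haveI : QuasiCompact φW := MorphismProperty.pullback_snd (P := @QuasiCompact) _ _ inferInstance
    rw [comp_fnHom, comp_fnHom]
    congr 1
    apply Scheme.Hom.app_injective φW ⊤
    apply fnHom_injective
    change fnHom (φW.appTop _) = fnHom (φW.appTop _)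
    rw [← comp_fnHom, ← comp_fnHom, ← comp_fnHom, ← comp_fnHom]
    have e : ∀ (p : pullback α α ⟶ Y') (_ : p ≫ α = pullback.fst α α ≫ α),
        φW ≫ p ≫ fnHom g = pullback.fst φ (pullback.fst α α ≫ α) ≫ fnHom f := by
      intro p hp
      let t : pullback φ (pullback.fst α α ≫ α) ⟶ pullback φ α :=
        pullback.lift (pullback.fst φ (pullback.fst α α ≫ α)) (φW ≫ p)
          (by rw [Category.assoc, hp]; exact pullback.condition)
      have h1 : t ≫ pullback.snd φ α = φW ≫ p := pullback.lift_snd _ _ _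
      have h2 : t ≫ pullback.fst φ α = pullback.fst φ (pullback.fst α α ≫ α) :=
        pullback.lift_fst _ _ _
      rw [← reassoc_of% h1, ← h2, Category.assoc, comp_fnHom (pullback.snd φ α),
        comp_fnHom (pullback.fst φ α), h]
    rw [e _ rfl, e _ pullback.condition.symm]
  let γ := EffectiveEpi.desc α (fnHom g) key
  have hγ : α ≫ γ = fnHom g := EffectiveEpi.fac α _ key
  haveI : Flat (pullback.fst φ α) := MorphismProperty.pullback_fst (P := @Flat) _ _ inferInstance
  haveI : Surjective (pullback.fst φ α) :=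
    MorphismProperty.pullback_fst (P := @Surjective) _ _ inferInstance
  haveI : QuasiCompact (pullback.fst φ α) :=
    MorphismProperty.pullback_fst (P := @QuasiCompact) _ _ inferInstance
  refine ⟨AffineSpace.toSpecMvPolyIntEquiv PUnit.{u + 1} γ PUnit.unit, fnHom_injective ?_⟩
  rw [← comp_fnHom, ← cancel_epi (pullback.fst φ α),
    show fnHom (AffineSpace.toSpecMvPolyIntEquiv PUnit.{u + 1} γ PUnit.unit) = γ from
      (Equiv.symm_apply_eq _).mpr (funext fun _ => rfl),
    pullback.condition_assoc, hγ, comp_fnHom, comp_fnHom, h]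

variable {S : Scheme.{u}} {G X Y X' Y' : Over S} [GrpObj G] {a : AlgGrp.Action G X} {φ : X ⟶ Y}

theorem isGeomQuot_descend [QuasiCompact φ.left] (hi : GIT.IsInvariant a φ) {α : Y' ⟶ Y}
    [Flat α.left] [Surjective α.left] [QuasiCompact α.left] {pr : X' ⟶ X} {φ' : X' ⟶ Y'}
    (hP : IsPullback pr φ' φ α) (a' : AlgGrp.Action G X')
    (ha : a'.act ≫ pr = (G ◁ pr) ≫ a.act) (hi' : GIT.IsInvariant a' φ')
    (h : GIT.IsGeomQuot a' φ') : GIT.IsGeomQuot a φ := by
  have hP' := isPullback_left hP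
  have hinj : ∀ U : Y.left.Opens, Function.Injective (φ.left.app U) := by
    intro U s t hst
    haveI : Flat (α.left ∣_ U) :=
      MorphismProperty.of_isPullback (isPullback_morphismRestrict α.left U).flip
        (inferInstance : Flat α.left)
    haveI : Surjective (α.left ∣_ U) :=
      MorphismProperty.of_isPullback (isPullback_morphismRestrict α.left U).flip
        (inferInstance : Surjective α.left)
    haveI : QuasiCompact (α.left ∣_ U) :=
      MorphismProperty.of_isPullback (isPullback_morphismRestrict α.left U).flip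
        (inferInstance : QuasiCompact α.left)
    have h1 : ∀ r, φ'.left.app (α.left ⁻¹ᵁ U) (α.left.app U r) =
        pr.left.appLE (φ.left ⁻¹ᵁ U) (φ'.left ⁻¹ᵁ (α.left ⁻¹ᵁ U))
          (by rw [← Scheme.Hom.comp_preimage, ← Scheme.Hom.comp_preimage, hP'.w])
          (φ.left.app U r) := by
      intro r
      rw [Scheme.Hom.app_eq_appLE, Scheme.Hom.app_eq_appLE, Scheme.Hom.app_eq_appLE,
        ← CommRingCat.comp_apply, ← CommRingCat.comp_apply, Scheme.Hom.appLE_comp_appLE,
        Scheme.Hom.appLE_comp_appLE, appLE_eq_of_eq hP'.w]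
    have h2 : α.left.app U s = α.left.app U t :=
      (h.sections _).1 ((h1 s).trans ((congrArg _ hst).trans (h1 t).symm))
    apply (ConcreteCategory.bijective_of_isIso U.topIso.inv).1
    apply appTop_injective_of_epi (α.left ∣_ U)
    rw [appTop_topIso_inv _ _ (by simp), appTop_topIso_inv _ _ (by simp),
      appLE_eq_of_eq (morphismRestrict_ι α.left U) _ (by simp),
      ← Scheme.Hom.appLE_comp_appLE _ α.left U (α.left ⁻¹ᵁ U) ⊤ le_rfl (by simp)]
    simp only [CommRingCat.comp_apply, ← Scheme.Hom.app_eq_appLE, h2]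
  refine ⟨hi, fun y => ?_, psiY_surjective_descend hi hP a' ha hi' h.orbit, ?_,
    fun U => ⟨hinj U, subset_antisymm ?_ fun f hf => ?_⟩⟩
  · obtain ⟨y', rfl⟩ := α.left.surjective y
    obtain ⟨x', rfl⟩ := h.surj y'
    exact ⟨pr.left.base x', congrArg (fun k : X'.left ⟶ Y.left => k.base x') hP'.w⟩
  · refine isQuotientMap_universally_descend φ.left α.left
      (Or.inr ⟨inferInstance, inferInstance⟩) ?_
    rw [← hP'.isoPullback_inv_snd]
    exact ((MorphismProperty.universally
      (topologically @IsQuotientMap)).cancel_left_of_respectsIso _ _).mpr h.subm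
  · rintro _ ⟨t, rfl⟩
    have := isInvSection_comp (a := a) (φ := φ) hi U U le_rfl t
    rwa [← Scheme.Hom.app_eq_appLE] at this
  have eV : φ'.left ⁻¹ᵁ (α.left ⁻¹ᵁ U) ≤ pr.left ⁻¹ᵁ (φ.left ⁻¹ᵁ U) := by
    rw [← Scheme.Hom.comp_preimage, ← Scheme.Hom.comp_preimage, hP'.w]
  have hf' : GIT.IsInvSection a' φ' (α.left ⁻¹ᵁ U)
      (pr.left.appLE (φ.left ⁻¹ᵁ U) (φ'.left ⁻¹ᵁ (α.left ⁻¹ᵁ U)) eV f) := by
    have h1 : a'.act.left ≫ pr.left = (G ◁ pr).left ≫ a.act.left :=
      congrArg CommaMorphism.left ha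
    have h2 : (snd G X').left ≫ pr.left = (G ◁ pr).left ≫ (snd G X).left :=
      congrArg CommaMorphism.left (whiskerLeft_snd G pr).symm
    unfold GIT.IsInvSection
    rw [← CommRingCat.comp_apply, ← CommRingCat.comp_apply, Scheme.Hom.appLE_comp_appLE,
      Scheme.Hom.appLE_comp_appLE]
    let W' := a'.act.left ⁻¹ᵁ (φ'.left ⁻¹ᵁ (α.left ⁻¹ᵁ U)) ⊓
      (snd G X').left ⁻¹ᵁ (φ'.left ⁻¹ᵁ (α.left ⁻¹ᵁ U))
    have eW : W' ≤ (G ◁ pr).left ⁻¹ᵁ
        (a.act.left ⁻¹ᵁ (φ.left ⁻¹ᵁ U) ⊓ (snd G X).left ⁻¹ᵁ (φ.left ⁻¹ᵁ U)) := by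
      intro w hw
      refine ⟨?_, ?_⟩
      · change a.act.left.base ((G ◁ pr).left.base w) ∈ φ.left ⁻¹ᵁ U
        rw [← Scheme.Hom.comp_apply, ← h1]
        exact eV hw.1
      · change (snd G X).left.base ((G ◁ pr).left.base w) ∈ φ.left ⁻¹ᵁ U
        rw [← Scheme.Hom.comp_apply, ← h2]
        exact eV hw.2
    rw [appLE_eq_of_eq h1 _ (eW.trans ((G ◁ pr).left.preimage_mono inf_le_left)),
      appLE_eq_of_eq h2 _ (eW.trans ((G ◁ pr).left.preimage_mono inf_le_right)),
      ← Scheme.Hom.appLE_comp_appLE _ _ _ _ _ inf_le_left eW,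
      ← Scheme.Hom.appLE_comp_appLE _ _ _ _ _ inf_le_right eW,
      CommRingCat.comp_apply, CommRingCat.comp_apply]
    exact congrArg _ hf
  obtain ⟨g, hg⟩ := app_range h.sections _ _ hf'
  haveI : Flat (α.left ∣_ U) :=
    MorphismProperty.of_isPullback (isPullback_morphismRestrict α.left U).flip
      (inferInstance : Flat α.left)
  haveI : Surjective (α.left ∣_ U) :=
    MorphismProperty.of_isPullback (isPullback_morphismRestrict α.left U).flip
      (inferInstance : Surjective α.left)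
  haveI : QuasiCompact (α.left ∣_ U) :=
    MorphismProperty.of_isPullback (isPullback_morphismRestrict α.left U).flip
      (inferInstance : QuasiCompact α.left)
  haveI : QuasiCompact (φ.left ∣_ U) :=
    MorphismProperty.of_isPullback (isPullback_morphismRestrict φ.left U).flip
      (inferInstance : QuasiCompact φ.left)
  haveI : IsSchemeTheoreticallyDominant (φ.left ∣_ U) :=
    isSchemeTheoreticallyDominant_of_app_injective _ (restrict_injective _ hinj U)
  let A := pullback.fst (φ.left ∣_ U) (α.left ∣_ U)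
  let B := pullback.snd (φ.left ∣_ U) (α.left ∣_ U)
  let m : pullback (φ.left ∣_ U) (α.left ∣_ U) ⟶ X'.left :=
    hP'.lift (A ≫ (φ.left ⁻¹ᵁ U).ι) (B ≫ (α.left ⁻¹ᵁ U).ι) (by
      rw [Category.assoc, Category.assoc, ← morphismRestrict_ι, ← morphismRestrict_ι,
        ← Category.assoc, ← Category.assoc, pullback.condition])
  have hm1 : A ≫ (φ.left ⁻¹ᵁ U).ι = m ≫ pr.left := (hP'.lift_fst _ _ _).symm
  have hm2 : B ≫ (α.left ⁻¹ᵁ U).ι = m ≫ φ'.left := (hP'.lift_snd _ _ _).symm
  have em : ⊤ ≤ m ⁻¹ᵁ (φ'.left ⁻¹ᵁ (α.left ⁻¹ᵁ U)) := by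
    intro w _
    change φ'.left.base (m.base w) ∈ α.left ⁻¹ᵁ U
    rw [← Scheme.Hom.comp_apply, ← hm2]
    exact (B.base w).2
  have em1 : ⊤ ≤ (m ≫ pr.left) ⁻¹ᵁ (φ.left ⁻¹ᵁ U) := em.trans (m.preimage_mono eV)
  have em2 : ⊤ ≤ (m ≫ φ'.left) ⁻¹ᵁ (α.left ⁻¹ᵁ U) := em
  obtain ⟨g₀, hg₀⟩ := exists_appTop_eq_of_descend (φ.left ∣_ U) (α.left ∣_ U)
    ((φ.left ⁻¹ᵁ U).topIso.inv f) ((α.left ⁻¹ᵁ U).topIso.inv g) (by
      change B.appTop _ = A.appTop _
      rw [appTop_topIso_inv B g (by simp), appTop_topIso_inv A f (by simp),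
        appLE_eq_of_eq hm1 _ em1, appLE_eq_of_eq hm2 _ em2,
        ← Scheme.Hom.appLE_comp_appLE _ _ _ _ _ eV em,
        ← Scheme.Hom.appLE_comp_appLE _ _ _ _ _ le_rfl em, CommRingCat.comp_apply,
        CommRingCat.comp_apply, ← Scheme.Hom.app_eq_appLE, hg])
  refine ⟨U.topIso.hom g₀, (ConcreteCategory.bijective_of_isIso (φ.left ⁻¹ᵁ U).topIso.inv).1 ?_⟩
  rw [← hg₀]
  have h3 : (φ.left ∣_ U).appTop (U.topIso.inv (U.topIso.hom g₀)) =
      (φ.left ⁻¹ᵁ U).topIso.inv (φ.left.app U (U.topIso.hom g₀)) := by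
    rw [appTop_topIso_inv _ _ (by simp), appLE_eq_of_eq (morphismRestrict_ι φ.left U) _ (by simp),
      ← Scheme.Hom.appLE_comp_appLE _ φ.left U (φ.left ⁻¹ᵁ U) ⊤ le_rfl (by simp),
      CommRingCat.comp_apply, ← Scheme.Hom.app_eq_appLE]
    simp only [Scheme.Opens.topIso_inv, Scheme.Opens.ι_appLE]
    congr 2
  rw [← h3, ← CommRingCat.comp_apply U.topIso.hom, Iso.hom_inv_id, CommRingCat.id_apply]

end Groth.Agent.GITQuot
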