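import Groth.Agent.GITQuot.DescentGeom
import Groth.Prelude.Def_SGA1

/-!
# Restriction of a quotient by a group of automorphisms to an open of the base
-/

set_option autoImplicit false

universe u

open CategoryTheory AlgebraicGeometry

namespace Groth.Agent.GITQuot

theorem isQuot_restrict {X Y : Scheme.{u}} {G : Type u} [Group G] (ρ : G →* Aut X) (p : X ⟶ Y)
    (hp : SGA1.IsQuot ρ p) (U : Y.Opens) (ρU : G →* Aut (p ⁻¹ᵁ U).toScheme)
    (hρU : ∀ g : G, (ρU g).hom ≫ (p ⁻¹ᵁ U).ι = (p ⁻¹ᵁ U).ι ≫ (ρ g).hom) :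
    SGA1.IsQuot ρU (p ∣_ U) := by
  haveI := hp.affine
  have hinv : ∀ g : G, (ρU g).hom ≫ (p ∣_ U) = p ∣_ U := fun g => by
    rw [← cancel_mono U.ι, Category.assoc, morphismRestrict_ι, ← Category.assoc, hρU,
      Category.assoc, hp.inv]
  refine ⟨IsZariskiLocalAtTarget.restrict (P := @IsAffineHom) ‹_› U, hinv,
    fun V => restrict_injective p hp.injective U V, fun V s => ?_⟩
  let W := (p ∣_ U) ⁻¹ᵁ V
  have hW : (p ⁻¹ᵁ U).ι ''ᵁ W = p ⁻¹ᵁ (U.ι ''ᵁ V) := image_morphismRestrict_preimage p U V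
  let c : Γ(X, p ⁻¹ᵁ (U.ι ''ᵁ V)) ⟶ Γ((p ⁻¹ᵁ U).toScheme, W) :=
    X.presheaf.map (eqToHom hW).op
  have hc : (p ∣_ U).app V = p.app (U.ι ''ᵁ V) ≫ c := morphismRestrict_app p U V
  have hcb : Function.Bijective c :=
    Function.bijective_iff_has_inverse.mpr ⟨X.presheaf.map (eqToHom hW.symm).op,
      fun r => map_map_self (X := X) _ _ r, fun r => map_map_self (X := X) _ _ r⟩
  have hcl : c = (p ⁻¹ᵁ U).ι.appLE (p ⁻¹ᵁ (U.ι ''ᵁ V)) W
      (by intro x hx; exact hW.le ⟨x, hx, rfl⟩) := by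
    rw [Scheme.Opens.ι_appLE]
    rfl
  obtain ⟨t, rfl⟩ := hcb.2 s
  have key : ∀ g : G,
      ((ρU g).hom.appLE W W (SGA1.preimage_le_of_inv ρU (p ∣_ U) hinv g V)) (c t) =
        c (((ρ g).hom.appLE (p ⁻¹ᵁ (U.ι ''ᵁ V)) (p ⁻¹ᵁ (U.ι ''ᵁ V))
          (SGA1.preimage_le_of_inv ρ p hp.inv g (U.ι ''ᵁ V))) t) := fun g => by
    rw [hcl, ← CommRingCat.comp_apply, ← CommRingCat.comp_apply, Scheme.Hom.appLE_comp_appLE,
      Scheme.Hom.appLE_comp_appLE]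
    rw [appLE_eq_of_eq (hρU g)]
  constructor
  · rintro ⟨r, hr⟩ g
    have hr' : p.app (U.ι ''ᵁ V) r = t := hcb.1 ((congrArg (fun k => (ConcreteCategory.hom k) r) hc).symm.trans hr)
    exact (key g).trans (congrArg c ((hp.range_iff _ t).mp ⟨r, hr'⟩ g))
  · intro h
    obtain ⟨r, hr⟩ := (hp.range_iff _ t).mpr fun g => hcb.1 ((key g).symm.trans (h g))
    exact ⟨r, (congrArg (fun k => (ConcreteCategory.hom k) r) hc).trans (congrArg c hr)⟩

end Groth.Agent.GITQuot
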