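import Groth.Agent.GITQuot.Universal
import Mathlib.AlgebraicGeometry.Morphisms.UniversallyOpen
import Mathlib.AlgebraicGeometry.Morphisms.FlatDescent

/-!
# Geometric quotients by universally open groups are universally open
-/

set_option autoImplicit false

universe u

open CategoryTheory CategoryTheory.Limits MonoidalCategory CartesianMonoidalCategory MonObj
  AlgebraicGeometry Topology

namespace Groth.Agent.GITQuot

variable {S : Scheme.{u}} {G X Y : Over S} [GrpObj G] {a : AlgGrp.Action G X} {φ : X ⟶ Y}

/-- The action morphism is isomorphic to the projection. -/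
theorem exists_iso_act (a : AlgGrp.Action G X) :
    ∃ e : G ⊗ X ⟶ G ⊗ X, IsIso e ∧ e ≫ snd G X = a.act := by
  have hone : ∀ {T : Over S} (x : T ⟶ X), lift (1 : T ⟶ G) x ≫ a.act = x := fun x => by
    have h := congrArg (fun q => lift (toUnit _) x ≫ q) a.one_act
    simpa [Hom.one_def, leftUnitor_hom] using h
  have hmul : ∀ {T : Over S} (g h : T ⟶ G) (x : T ⟶ X),
      lift (g * h) x ≫ a.act = lift g (lift h x ≫ a.act) ≫ a.act := fun g h x => by
    have := congrArg (fun q => lift (lift g h) x ≫ q) a.mul_act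
    simpa [Hom.mul_def] using this
  refine ⟨lift (fst G X) a.act,
    ⟨⟨lift (fst G X) (lift (fst G X)⁻¹ (snd G X) ≫ a.act), ?_, ?_⟩⟩, lift_snd _ _⟩
  · apply CartesianMonoidalCategory.hom_ext
    · simp
    · simp only [Category.assoc, lift_snd, Category.id_comp]
      rw [← Category.assoc, comp_lift, GrpObj.comp_inv, lift_fst, lift_snd]
      conv_lhs => enter [1, 2]; rw [← Category.id_comp a.act, ← lift_fst_snd]
      rw [← hmul, inv_mul_cancel, hone]
  · apply CartesianMonoidalCategory.hom_ext
    · simp
    · simp only [Category.assoc, lift_snd, Category.id_comp]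
      conv_lhs => enter [2]; rw [← Category.id_comp a.act, ← lift_fst_snd]
      rw [← Category.assoc, comp_lift, lift_fst, lift_snd, ← hmul, mul_inv_cancel, hone]

theorem universallyOpen_of_orbit [UniversallyOpen G.hom] (hi : GIT.IsInvariant a φ)
    (ho : Function.Surjective (GIT.PsiY a φ hi).base) (hs : GIT.IsUnivSubmersive φ.left) :
    UniversallyOpen φ.left := by
  constructor
  intro X₁ Y₁ i₁ i₂ f₁ sq
  have hq : IsQuotientMap f₁.base := hs i₁ i₂ f₁ sq
  let Y' : Over S := Over.mk (i₂ ≫ Y.hom)
  let g : Y' ⟶ Y := Over.homMk i₂ rfl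
  let X' : Over S := Over.mk (i₁ ≫ X.hom)
  let pr : X' ⟶ X := Over.homMk i₁ rfl
  let φ' : X' ⟶ Y' := Over.homMk f₁ (by
    change _ = i₁ ≫ X.hom
    rw [← Over.w φ, ← reassoc_of% sq.w]
    rfl)
  have hP : IsPullback pr φ' φ g := isPullback_of_left sq.flip
  obtain ⟨a', ha, hi'⟩ := exists_action_baseChange hi hP
  have ho' := psiY_surjective_baseChange hi ho hP a' ha hi'
  obtain ⟨e, he, hea⟩ := exists_iso_act a'
  haveI : IsIso e.left := inferInstanceAs (IsIso ((Over.forget S).map e))
  haveI : UniversallyOpen (snd G X').left :=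
    inferInstanceAs (UniversallyOpen (pullback.snd G.hom X'.hom))
  have hact : IsOpenMap a'.act.left.base := by
    rw [← hea, Over.comp_left]
    exact (e.left ≫ (snd G X').left).isOpenMap
  intro V hV
  rw [← hq.isOpen_preimage]
  have : f₁.base ⁻¹' (f₁.base '' V) = a'.act.left.base '' ((snd G X').left.base ⁻¹' V) := by
    apply subset_antisymm
    · rintro x ⟨x', hx', hxx⟩
      obtain ⟨z, hz1, hz2⟩ := Scheme.Pullback.exists_preimage_pullback
        (f := φ'.left) (g := φ'.left) x x' hxx.symm
      obtain ⟨p, rfl⟩ := ho' z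
      refine ⟨p, ?_, ?_⟩
      · change (snd G X').left.base p ∈ V
        rw [show (snd G X').left = GIT.PsiY a' φ' hi' ≫ pullback.snd φ'.left φ'.left from
          (pullback.lift_snd _ _ _).symm, Scheme.Hom.comp_apply, hz2]
        exact hx'
      · rw [show a'.act.left = GIT.PsiY a' φ' hi' ≫ pullback.fst φ'.left φ'.left from
          (pullback.lift_fst _ _ _).symm, Scheme.Hom.comp_apply, hz1]
    · rintro _ ⟨p, hp, rfl⟩
      exact ⟨_, hp, (congrArg (fun k : (G ⊗ X').left ⟶ Y'.left => k.base p)
        (GIT.IsInvariant.left hi')).symm⟩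
  rw [this]
  exact hact _ (hV.preimage (snd G X').left.continuous)

end Groth.Agent.GITQuot
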