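import Groth.Agent.GITQuot.Basic
import Mathlib.AlgebraicGeometry.Morphisms.Separated

/-!
# Orbit maps of geometric quotients

Closedness of orbits, the separation criterion, and stability of the orbit condition under base
change.
-/

set_option autoImplicit false

universe u

open CategoryTheory CategoryTheory.Limits MonoidalCategory CartesianMonoidalCategory MonObj
  AlgebraicGeometry Topology

namespace Groth.Agent.GITQuot

variable {S : Scheme.{u}} {G X Y : Over S} [GrpObj G] {a : AlgGrp.Action G X} {φ : X ⟶ Y}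

/-- Two points of `X` over the same point of `Y` differ by the action after a surjective cover. -/
theorem exists_lift (hi : GIT.IsInvariant a φ) (ho : Function.Surjective (GIT.PsiY a φ hi).base)
    {Q : Over S} (x₁ x₂ : Q ⟶ X) (h : x₁ ≫ φ = x₂ ≫ φ) (q : Q.left) :
    ∃ (P : Over S) (e : P ⟶ Q) (g : P ⟶ G ⊗ X) (p : P.left),
      e.left.base p = q ∧ g ≫ a.act = e ≫ x₁ ∧ g ≫ snd G X = e ≫ x₂ := by
  let m : Q.left ⟶ pullback φ.left φ.left :=
    pullback.lift x₁.left x₂.left (by rw [← Over.comp_left, h, Over.comp_left])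
  obtain ⟨r, hr⟩ := ho (m.base q)
  obtain ⟨p, hp, -⟩ := Scheme.Pullback.exists_preimage_pullback (f := m)
    (g := GIT.PsiY a φ hi) q r hr.symm
  have h1 : pullback.fst m (GIT.PsiY a φ hi) ≫ x₁.left =
      pullback.snd m (GIT.PsiY a φ hi) ≫ a.act.left := by
    have := congrArg (fun k => k ≫ pullback.fst φ.left φ.left)
      (pullback.condition (f := m) (g := GIT.PsiY a φ hi))
    simpa only [Category.assoc, m, GIT.PsiY, pullback.lift_fst] using this
  have h2 : pullback.fst m (GIT.PsiY a φ hi) ≫ x₂.left =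
      pullback.snd m (GIT.PsiY a φ hi) ≫ (snd G X).left := by
    have := congrArg (fun k => k ≫ pullback.snd φ.left φ.left)
      (pullback.condition (f := m) (g := GIT.PsiY a φ hi))
    simpa only [Category.assoc, m, GIT.PsiY, pullback.lift_snd] using this
  let P : Over S := Over.mk (pullback.fst m (GIT.PsiY a φ hi) ≫ Q.hom)
  let e : P ⟶ Q := Over.homMk (pullback.fst m (GIT.PsiY a φ hi)) rfl
  let g : P ⟶ G ⊗ X := Over.homMk (pullback.snd m (GIT.PsiY a φ hi)) (by
    change _ = pullback.fst m (GIT.PsiY a φ hi) ≫ Q.hom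
    rw [← Over.w a.act, ← Category.assoc, ← h1, Category.assoc, Over.w])
  exact ⟨P, e, g, p, hp, Over.OverMorphism.ext h1.symm, Over.OverMorphism.ext h2.symm⟩

/-- The orbit of a `T`-point is the locus where `φ` agrees with it. -/
theorem mem_range_psi (hi : GIT.IsInvariant a φ)
    (ho : Function.Surjective (GIT.PsiY a φ hi).base) {T : Over S} (f : T ⟶ X)
    {Q : Over S} (e : Q ⟶ X ⊗ T) (h : e ≫ fst X T ≫ φ = e ≫ snd X T ≫ f ≫ φ) (q : Q.left) :
    e.left.base q ∈ Set.range (GIT.psi a f).left.base := by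
  obtain ⟨P, d, g, p, hp, hg1, hg2⟩ := exists_lift hi ho (e ≫ fst X T) (e ≫ snd X T ≫ f)
    (by simpa only [Category.assoc] using h) q
  let r : P ⟶ G ⊗ T := lift (g ≫ fst G X) (d ≫ e ≫ snd X T)
  have hr : r ≫ (G ◁ f) = g := by
    apply CartesianMonoidalCategory.hom_ext <;> simp [r, hg2]
  have : r ≫ GIT.psi a f = d ≫ e := by
    apply CartesianMonoidalCategory.hom_ext
    · simp [GIT.psi, reassoc_of% hr, hg1]
    · simp [GIT.psi, r]
  refine ⟨r.left.base p, ?_⟩
  rw [← hp]
  exact congrArg (fun k : P ⟶ X ⊗ T => k.left.base p) this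

theorem psi_range_subset (hi : GIT.IsInvariant a φ) {T : Over S} (f : T ⟶ X) :
    GIT.psi a f ≫ fst X T ≫ φ = GIT.psi a f ≫ snd X T ≫ f ≫ φ := by
  simp only [GIT.psi, lift_fst_assoc, lift_snd_assoc, Category.assoc]
  rw [show a.act ≫ φ = snd G X ≫ φ from hi, whiskerLeft_snd_assoc]

/-- The range of a section of a morphism to the spectrum of a field is closed. -/
theorem isClosed_range_of_section {T W : Scheme.{u}} [IsAffine T] (π : W ⟶ T) (s : T ⟶ W)
    (hs : s ≫ π = 𝟙 T) [Subsingleton T] : IsClosed (Set.range s.base) := by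
  rw [← isOpen_compl_iff, isOpen_iff_forall_mem_open]
  intro y hy
  obtain ⟨U, hU, hyU, -⟩ := exists_isAffineOpen_mem_and_subset (x := y) (U := ⊤) trivial
  haveI : IsAffine U.toScheme := hU
  by_cases hT : ∃ t, s.base t ∈ U
  · obtain ⟨t, ht⟩ := hT
    have hsub : Set.range s.base ⊆ Set.range U.ι.base := by
      rintro _ ⟨t', rfl⟩
      rw [Scheme.Opens.range_ι, Subsingleton.elim t' t]
      exact ht
    let s' : T ⟶ U.toScheme := IsOpenImmersion.lift U.ι s hsub
    have hs' : s' ≫ U.ι = s := IsOpenImmersion.lift_fac _ _ _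
    haveI : IsClosedImmersion (s' ≫ U.ι ≫ π) := by
      rw [reassoc_of% hs', hs]; infer_instance
    haveI : IsClosedImmersion s' := IsClosedImmersion.of_comp s' (U.ι ≫ π)
    refine ⟨U.ι.base '' (Set.range s'.base)ᶜ, ?_, ?_, ?_⟩
    · rintro _ ⟨w, hw, rfl⟩ ⟨t', ht'⟩
      apply hw
      refine ⟨t', ?_⟩
      apply U.ι.isOpenEmbedding.injective
      rw [← ht', ← hs']; rfl
    · exact U.ι.isOpenEmbedding.isOpenMap _ s'.isClosedEmbedding.isClosed_range.isOpen_compl
    · refine ⟨⟨y, hyU⟩, ?_, rfl⟩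
      rintro ⟨t', ht'⟩
      exact hy ⟨t', by rw [← hs']; exact congrArg Subtype.val ht'⟩
  · push Not at hT
    exact ⟨U, fun w hw ⟨t, ht⟩ => hT t (ht ▸ hw), U.isOpen, hyU⟩

/-- A geometric quotient makes orbits of geometric points closed. -/
theorem isClosedAction_of (hi : GIT.IsInvariant a φ)
    (ho : Function.Surjective (GIT.PsiY a φ hi).base) : GIT.IsClosedAction a := by
  intro Ω _ _ T eT f
  haveI : IsAffine T.left := IsAffine.of_isIso eT.hom
  haveI : Subsingleton T.left := eT.hom.homeomorph.injective.subsingleton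
  let s : T ⟶ Y ⊗ T := lift (f ≫ φ) (𝟙 T)
  have hs : IsClosed (Set.range s.left.base) :=
    isClosed_range_of_section (snd Y T).left s.left (by
      rw [← Over.comp_left, lift_snd]; rfl)
  have : Set.range (GIT.psi a f).left.base = (φ ▷ T).left.base ⁻¹' Set.range s.left.base := by
    apply subset_antisymm
    · rintro _ ⟨w, rfl⟩
      refine ⟨(snd G T).left.base w, ?_⟩
      have : GIT.psi a f ≫ (φ ▷ T) = snd G T ≫ s := by
        apply CartesianMonoidalCategory.hom_ext
        · simp only [Category.assoc, whiskerRight_fst, s, lift_fst]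
          rw [psi_range_subset hi]; simp [GIT.psi]
        · simp [GIT.psi, s]
      exact (congrArg (fun k : G ⊗ T ⟶ Y ⊗ T => k.left.base w) this).symm
    · rintro z ⟨t, ht⟩
      obtain ⟨q, hq, -⟩ := Scheme.Pullback.exists_preimage_pullback
        (f := (φ ▷ T).left) (g := s.left) z t ht.symm
      let Q : Over S := Over.mk (pullback.fst (φ ▷ T).left s.left ≫ (X ⊗ T).hom)
      let e : Q ⟶ X ⊗ T := Over.homMk (pullback.fst (φ ▷ T).left s.left) rfl
      let c : Q ⟶ T := Over.homMk (pullback.snd (φ ▷ T).left s.left) (by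
        change _ = pullback.fst (φ ▷ T).left s.left ≫ (X ⊗ T).hom
        rw [← Over.w (φ ▷ T), pullback.condition_assoc, Over.w s])
      have hc : e ≫ (φ ▷ T) = c ≫ s := Over.OverMorphism.ext pullback.condition
      have hc2 : e ≫ snd X T = c := by
        simpa [s] using congrArg (fun k => k ≫ snd Y T) hc
      have hc1 : e ≫ fst X T ≫ φ = c ≫ f ≫ φ := by
        simpa [s] using congrArg (fun k => k ≫ fst Y T) hc
      rw [← hq]
      exact mem_range_psi hi ho f e (by rw [hc1, ← hc2]; simp) q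
  rw [this]
  exact hs.preimage (φ ▷ T).left.base.hom.continuous

/-- The orbit condition is stable under base change. -/
theorem psiY_surjective_baseChange (hi : GIT.IsInvariant a φ)
    (ho : Function.Surjective (GIT.PsiY a φ hi).base) {X' Y' : Over S} {pr : X' ⟶ X}
    {φ' : X' ⟶ Y'} {g : Y' ⟶ Y} (hP : IsPullback pr φ' φ g) (a' : AlgGrp.Action G X')
    (ha : a'.act ≫ pr = (G ◁ pr) ≫ a.act) (hi' : GIT.IsInvariant a' φ') :
    Function.Surjective (GIT.PsiY a' φ' hi').base := by
  intro z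
  let Q : Over S := Over.mk (pullback.fst φ'.left φ'.left ≫ X'.hom)
  let y₁ : Q ⟶ X' := Over.homMk (pullback.fst φ'.left φ'.left) rfl
  let y₂ : Q ⟶ X' := Over.homMk (pullback.snd φ'.left φ'.left) (by
    change _ = pullback.fst φ'.left φ'.left ≫ X'.hom
    rw [← Over.w φ', pullback.condition_assoc])
  have hy : y₁ ≫ φ' = y₂ ≫ φ' := Over.OverMorphism.ext pullback.condition
  obtain ⟨P, e, d, p, hp, hd1, hd2⟩ := exists_lift hi ho (y₁ ≫ pr) (y₂ ≫ pr)
    (by rw [Category.assoc, Category.assoc, hP.w, reassoc_of% hy]) z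
  let r : P ⟶ G ⊗ X' := lift (d ≫ fst G X) (e ≫ y₂)
  have hr : r ≫ (G ◁ pr) = d := by
    apply CartesianMonoidalCategory.hom_ext <;> simp [r, hd2]
  have h1 : r ≫ a'.act = e ≫ y₁ := by
    apply hP.hom_ext
    · rw [Category.assoc, ha, reassoc_of% hr, hd1, Category.assoc]
    · rw [Category.assoc, show a'.act ≫ φ' = snd G X' ≫ φ' from hi', Category.assoc, hy]
      simp [r]
  have h2 : r ≫ snd G X' = e ≫ y₂ := by simp [r]
  refine ⟨r.left.base p, ?_⟩
  rw [← hp]
  have : r.left ≫ GIT.PsiY a' φ' hi' = e.left := by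
    apply pullback.hom_ext
    · rw [GIT.PsiY, Category.assoc, pullback.lift_fst]
      exact congrArg CommaMorphism.left h1
    · rw [GIT.PsiY, Category.assoc, pullback.lift_snd]
      exact congrArg CommaMorphism.left h2
  exact congrArg (fun k : P.left ⟶ pullback φ'.left φ'.left => k.base p) this

theorem range_psi_id (hi : GIT.IsInvariant a φ)
    (ho : Function.Surjective (GIT.PsiY a φ hi).base) :
    Set.range (GIT.psi a (𝟙 X)).left.base =
      (φ ⊗ₘ φ).left.base ⁻¹' Set.range (lift (𝟙 Y) (𝟙 Y)).left.base := by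
  apply subset_antisymm
  · rintro _ ⟨w, rfl⟩
    refine ⟨(snd G X ≫ φ).left.base w, ?_⟩
    have : GIT.psi a (𝟙 X) ≫ (φ ⊗ₘ φ) = (snd G X ≫ φ) ≫ lift (𝟙 Y) (𝟙 Y) := by
      apply CartesianMonoidalCategory.hom_ext
      · simpa [GIT.psi] using show a.act ≫ φ = snd G X ≫ φ from hi
      · simp [GIT.psi]
    exact (congrArg (fun k : G ⊗ X ⟶ Y ⊗ Y => k.left.base w) this).symm
  · rintro z ⟨t, ht⟩
    obtain ⟨q, hq, -⟩ := Scheme.Pullback.exists_preimage_pullback
      (f := (φ ⊗ₘ φ).left) (g := (lift (𝟙 Y) (𝟙 Y)).left) z t ht.symm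
    let Q : Over S :=
      Over.mk (pullback.fst (φ ⊗ₘ φ).left (lift (𝟙 Y) (𝟙 Y)).left ≫ (X ⊗ X).hom)
    let e : Q ⟶ X ⊗ X := Over.homMk (pullback.fst (φ ⊗ₘ φ).left (lift (𝟙 Y) (𝟙 Y)).left) rfl
    let c : Q ⟶ Y := Over.homMk (pullback.snd (φ ⊗ₘ φ).left (lift (𝟙 Y) (𝟙 Y)).left) (by
      change _ = pullback.fst (φ ⊗ₘ φ).left (lift (𝟙 Y) (𝟙 Y)).left ≫ (X ⊗ X).hom
      rw [← Over.w (φ ⊗ₘ φ), pullback.condition_assoc, Over.w (lift (𝟙 Y) (𝟙 Y))])
    have hc : e ≫ (φ ⊗ₘ φ) = c ≫ lift (𝟙 Y) (𝟙 Y) := Over.OverMorphism.ext pullback.condition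
    have hc1 : e ≫ fst X X ≫ φ = c := by simpa using congrArg (fun k => k ≫ fst Y Y) hc
    have hc2 : e ≫ snd X X ≫ φ = c := by simpa using congrArg (fun k => k ≫ snd Y Y) hc
    rw [← hq]
    exact mem_range_psi hi ho (𝟙 X) e (by simp [hc1, hc2]) q

theorem isSeparated_iff_isClosed_diag :
    IsSeparated Y.hom ↔ IsClosed (Set.range (lift (𝟙 Y) (𝟙 Y)).left.base) := by
  have hd : pullback.diagonal Y.hom = (lift (𝟙 Y) (𝟙 Y)).left := by
    rw [Over.lift_left]; rfl
  rw [← hd]
  refine ⟨fun h => ?_, fun h => ⟨IsClosedImmersion.of_isPreimmersion _ h⟩⟩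
  exact h.isClosedImmersion_diagonal.base_closed.isClosed_range

theorem isQuotientMap_tensorHom (h : GIT.IsUnivSubmersive φ.left) :
    IsQuotientMap (φ ⊗ₘ φ).left.base := by
  have h1 : ∀ Z : Over S, IsQuotientMap (Z ◁ φ).left.base := fun Z => by
    refine h (snd Z X).left (snd Z Y).left (Z ◁ φ).left (IsPullback.flip ?_)
    refine IsPullback.of_bot (v₂₁ := (fst Z Y).left) (v₂₂ := Y.hom) (v₁₁ := (Z ◁ φ).left)
      (h₃₁ := Z.hom) ?_ ?_ ?_
    · rw [Over.w φ, ← Over.comp_left, whiskerLeft_fst]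
      exact (IsPullback.of_hasPullback Z.hom X.hom).flip
    · rw [← Over.comp_left, ← Over.comp_left, whiskerLeft_snd]
    · exact (IsPullback.of_hasPullback Z.hom Y.hom).flip
  have h2 : ∀ Z : Over S, IsQuotientMap (φ ▷ Z).left.base := fun Z => by
    refine h (fst X Z).left (fst Y Z).left (φ ▷ Z).left (IsPullback.flip ?_)
    refine IsPullback.of_bot (v₂₁ := (snd Y Z).left) (v₂₂ := Y.hom) (v₁₁ := (φ ▷ Z).left)
      (h₃₁ := Z.hom) ?_ ?_ ?_
    · rw [Over.w φ, ← Over.comp_left, whiskerRight_snd]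
      exact IsPullback.of_hasPullback X.hom Z.hom
    · rw [← Over.comp_left, ← Over.comp_left, whiskerRight_fst]
    · exact IsPullback.of_hasPullback Y.hom Z.hom
  rw [MonoidalCategory.tensorHom_def, Over.comp_left]
  exact (h1 _).comp (h2 _)

theorem isSeparated_iff_isClosed_range_psi (h : GIT.IsGeomQuot a φ) :
    IsSeparated Y.hom ↔ IsClosed (Set.range (GIT.psi a (𝟙 X)).left.base) := by
  rw [isSeparated_iff_isClosed_diag, range_psi_id h.inv h.orbit]
  exact (isQuotientMap_tensorHom h.subm).isClosed_preimage.symm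

end Groth.Agent.GITQuot
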