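import Groth.Agent.GITQuot.Open
import Groth.Prelude.Def_NonAbH2
import Mathlib.AlgebraicGeometry.Sites.Fpqc

/-!
# Trivial torsors, and functions on the base of an fpqc torsor
-/

set_option autoImplicit false

universe u

open CategoryTheory CategoryTheory.Limits MonoidalCategory CartesianMonoidalCategory MonObj
  AlgebraicGeometry Topology

namespace Groth.Agent.GITQuot

variable {S : Scheme.{u}} {G X : Over S} [GrpObj G]

theorem trivial_iff (a : AlgGrp.Action G X) :
    Nonempty (NonAbH1.EquivIso (NonAbH1.trivialAction G) a) ↔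
      (NonAbH1.IsPseudoTorsorSch a ∧ NonAbH1.HasSectionOver X (𝟙 S)) := by
  constructor
  · rintro ⟨⟨e, he⟩⟩
    refine ⟨?_, ((η[G] : 𝟙_ (Over S) ⟶ G) ≫ e.hom).left, Over.w ((η[G] : 𝟙_ (Over S) ⟶ G) ≫ e.hom)⟩
    have h := NonAbH1.isPseudoTorsorSch_trivialAction G
    change IsIso _ at h
    haveI := h
    have key : (G ◁ e.hom) ≫ lift a.act (snd G X) =
        lift (NonAbH1.trivialAction G).act (snd G G) ≫ (e.hom ⊗ₘ e.hom) := by
      apply CartesianMonoidalCategory.hom_ext
      · simp [← he]
      · simp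
    have : IsIso ((G ◁ e.hom) ≫ lift a.act (snd G X)) := key ▸ inferInstance
    exact IsIso.of_isIso_comp_left (G ◁ e.hom) (lift a.act (snd G X))
  · rintro ⟨hT, s, hs⟩
    change IsIso (lift a.act (snd G X)) at hT
    haveI := hT
    let o : 𝟙_ (Over S) ⟶ X := Over.homMk s hs
    let f : G ⟶ X := lift (𝟙 G) (toUnit G ≫ o) ≫ a.act
    let q : X ⟶ G ⊗ X := lift (𝟙 X) (toUnit X ≫ o) ≫ inv (lift a.act (snd G X))
    have hq : q ≫ lift a.act (snd G X) = lift (𝟙 X) (toUnit X ≫ o) := by
      simp only [q, Category.assoc, IsIso.inv_hom_id, Category.comp_id]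
    have h1 : q ≫ a.act = 𝟙 X := by simpa using congrArg (fun t => t ≫ fst X X) hq
    have h2 : q ≫ snd G X = toUnit X ≫ o := by simpa using congrArg (fun t => t ≫ snd X X) hq
    refine ⟨⟨⟨f, q ≫ fst G X, ?_, ?_⟩, ?_⟩⟩
    · have e2 : f ≫ q = lift (𝟙 G) (toUnit G ≫ o) := by
        rw [← cancel_mono (lift a.act (snd G X)), Category.assoc, hq]
        apply CartesianMonoidalCategory.hom_ext
        · simp [f]
        · simp [f]
      rw [reassoc_of% e2, lift_fst]
    · have e3 : lift (q ≫ fst G X) (toUnit X ≫ o) = q := by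
        rw [← h2, ← comp_lift, lift_fst_snd, Category.comp_id]
      simp only [f]
      rw [← Category.assoc, comp_lift, Category.comp_id, comp_toUnit_assoc, e3, h1]
    · simp only [NonAbH1.trivialAction, f]
      rw [← Category.assoc, comp_lift, Category.comp_id, comp_toUnit_assoc]
      have := congrArg (fun t => lift (𝟙 (G ⊗ G)) (toUnit (G ⊗ G) ≫ o) ≫ t) a.mul_act
      simp at this
      rw [this, ← Category.assoc, ← Category.assoc]
      congr 1
      apply CartesianMonoidalCategory.hom_ext
      · simp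
      · simp only [Category.assoc, lift_snd, whiskerLeft_snd]
        rw [← Category.assoc (snd G G), comp_lift, Category.comp_id, comp_toUnit_assoc,
          ← Category.assoc, ← Category.assoc]
        congr 1
        apply CartesianMonoidalCategory.hom_ext <;> simp

theorem functions_of_torsor (a : AlgGrp.Action G X)
    (ha : NonAbH1.IsTorsorFor Scheme.fpqcPrecoverage a) :
    Function.Injective X.hom.appTop.hom ∧
      ∀ s : Γ(X.left, ⊤), s ∈ Set.range X.hom.appTop.hom ↔
        a.act.left.appTop.hom s = (snd G X).left.appTop.hom s := by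
  obtain ⟨hT, R, hR, hsec⟩ := ha
  change IsIso (lift a.act (snd G X)) at hT
  haveI := hT
  have hshf : ∀ Z : Scheme.{u}, Presieve.IsSheafFor (yoneda.obj Z) R := by
    intro Z
    rw [Presieve.isSheafFor_iff_generate]
    exact GrothendieckTopology.Subcanonical.isSheaf_of_isRepresentable (J := Scheme.fpqcTopology)
      (yoneda.obj Z) _ (Precoverage.generate_mem_toGrothendieck hR)
  let e := AffineSpace.toSpecMvPolyIntEquiv PUnit.{u + 1} (X := X.left)
  let eS := AffineSpace.toSpecMvPolyIntEquiv PUnit.{u + 1} (X := S)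
  have hnat : ∀ r : Γ(S, ⊤), X.hom ≫ eS.symm (fun _ => r) = e.symm (fun _ => X.hom.appTop r) := by
    intro r
    apply e.injective
    ext i
    rw [AffineSpace.toSpecMvPolyIntEquiv_comp, Equiv.apply_symm_apply, Equiv.apply_symm_apply]
  refine ⟨fun r r' h => ?_, fun s => ⟨?_, fun hs => ?_⟩⟩
  · have : eS.symm (fun _ => r) = eS.symm (fun _ => r') := by
      refine (hshf _).isSeparatedFor.ext fun Y f hf => ?_
      obtain ⟨σ, hσ⟩ := hsec f hf
      change f ≫ _ = f ≫ _
      rw [← hσ, Category.assoc, Category.assoc, hnat, hnat,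
        show X.hom.appTop r = X.hom.appTop r' from h]
    exact congrFun (eS.symm.injective this) PUnit.unit
  · rintro ⟨r, rfl⟩
    change (X.hom.appTop ≫ a.act.left.appTop) r = (X.hom.appTop ≫ (snd G X).left.appTop) r
    rw [← Scheme.Hom.comp_appTop, ← Scheme.Hom.comp_appTop, Over.w, Over.w]
  · let δ := e.symm (fun _ => s)
    have hδ : a.act.left ≫ δ = (snd G X).left ≫ δ := by
      apply (AffineSpace.toSpecMvPolyIntEquiv PUnit.{u + 1} (X := (G ⊗ X).left)).injective
      ext i
      rw [AffineSpace.toSpecMvPolyIntEquiv_comp, AffineSpace.toSpecMvPolyIntEquiv_comp]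
      simp only [δ, e, Equiv.apply_symm_apply]
      exact hs
    have key : ∀ {W : Scheme.{u}} (x x' : W ⟶ X.left), x ≫ X.hom = x' ≫ X.hom → x ≫ δ = x' ≫ δ := by
      intro W x x' w
      let T : Over S := Over.mk (x ≫ X.hom)
      let x₁ : T ⟶ X := Over.homMk x rfl
      let x₂ : T ⟶ X := Over.homMk x' w.symm
      let t : T ⟶ G ⊗ X := lift x₁ x₂ ≫ inv (lift a.act (snd G X))
      have ht : t ≫ lift a.act (snd G X) = lift x₁ x₂ := by
        simp only [t, Category.assoc, IsIso.inv_hom_id, Category.comp_id]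
      have h1 : t ≫ a.act = x₁ := by simpa using congrArg (fun k => k ≫ fst X X) ht
      have h2 : t ≫ snd G X = x₂ := by simpa using congrArg (fun k => k ≫ snd X X) ht
      have e1 : t.left ≫ a.act.left = x := congrArg CommaMorphism.left h1
      have e2 : t.left ≫ (snd G X).left = x' := congrArg CommaMorphism.left h2
      rw [← e1, ← e2, Category.assoc, Category.assoc, hδ]
    choose σ hσ using hsec
    let Fam : Presieve.FamilyOfElements (yoneda.obj _) R := fun Y f hf => σ f hf ≫ δ
    have hF : Fam.Compatible := by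
      intro Y₁ Y₂ W g₁ g₂ f₁ f₂ h₁ h₂ w
      change g₁ ≫ σ f₁ h₁ ≫ δ = g₂ ≫ σ f₂ h₂ ≫ δ
      rw [← Category.assoc, ← Category.assoc]
      refine key _ _ ?_
      rw [Category.assoc, Category.assoc, hσ, hσ, w]
    let γ : S ⟶ _ := (hshf _).amalgamate Fam hF
    have hγ : X.hom ≫ γ = δ := by
      have hs2 := GrothendieckTopology.Subcanonical.isSheaf_of_isRepresentable
        (J := Scheme.fpqcTopology)
        (yoneda.obj (Spec (CommRingCat.of (MvPolynomial PUnit.{u + 1} (ULift.{u} ℤ))))) _
        (Scheme.fpqcTopology.pullback_stable X.hom (Precoverage.generate_mem_toGrothendieck hR))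
      refine hs2.isSeparatedFor.ext fun W k hk => ?_
      obtain ⟨V, r, f, hf, hrf⟩ := hk
      change k ≫ X.hom ≫ γ = k ≫ δ
      rw [← Category.assoc, ← hrf, Category.assoc,
        show f ≫ γ = σ f hf ≫ δ from (hshf _).valid_glue hF f hf, ← Category.assoc]
      refine key _ _ ?_
      rw [Category.assoc, hσ, hrf]
    refine ⟨eS γ PUnit.unit, ?_⟩
    have h3 := congrFun (congrArg e hγ) PUnit.unit
    simp only [e, δ, AffineSpace.toSpecMvPolyIntEquiv_comp, Equiv.apply_symm_apply] at h3
    exact h3

end Groth.Agent.GITQuot
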