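import Groth.Agent.GITQuot.Orbit
import Mathlib.AlgebraicGeometry.AffineSpace
import Mathlib.AlgebraicGeometry.Limits

/-!
# Universal categorical quotients

A universal categorical quotient is surjective with invariant functions as functions; it is a
universal geometric quotient iff it is universally submersive with surjective orbit map.
-/

set_option autoImplicit false

universe u

open CategoryTheory CategoryTheory.Limits MonoidalCategory CartesianMonoidalCategory MonObj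
  AlgebraicGeometry Topology

namespace Groth.Agent.GITQuot

variable {S : Scheme.{u}} {G X Y : Over S} [GrpObj G] {a : AlgGrp.Action G X} {φ : X ⟶ Y}

theorem isPullback_of_left {A B C D : Over S} {f : A ⟶ B} {g : A ⟶ C} {h : B ⟶ D} {k : C ⟶ D}
    (w : IsPullback f.left g.left h.left k.left) : IsPullback f g h k :=
  IsPullback.of_map (Over.forget S) (Over.OverMorphism.ext w.w) w

theorem isPullback_left {A B C D : Over S} {f : A ⟶ B} {g : A ⟶ C} {h : B ⟶ D} {k : C ⟶ D}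
    (w : IsPullback f g h k) : IsPullback f.left g.left h.left k.left :=
  w.map (Over.forget S)

/-- The action on a base change of an invariant morphism. -/
theorem exists_action_baseChange (hi : GIT.IsInvariant a φ) {X' Y' : Over S} {pr : X' ⟶ X}
    {φ' : X' ⟶ Y'} {g : Y' ⟶ Y} (hP : IsPullback pr φ' φ g) :
    ∃ a' : AlgGrp.Action G X', a'.act ≫ pr = (G ◁ pr) ≫ a.act ∧ GIT.IsInvariant a' φ' := by
  have hi' : a.act ≫ φ = snd G X ≫ φ := hi
  let act : G ⊗ X' ⟶ X' := hP.lift ((G ◁ pr) ≫ a.act) (snd G X' ≫ φ')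
    (by rw [Category.assoc, hi', whiskerLeft_snd_assoc, hP.w, Category.assoc])
  have h1 : act ≫ pr = (G ◁ pr) ≫ a.act := hP.lift_fst _ _ _
  have h2 : act ≫ φ' = snd G X' ≫ φ' := hP.lift_snd _ _ _
  refine ⟨⟨act, ?_, ?_⟩, h1, h2⟩
  · apply hP.hom_ext
    · rw [Category.assoc, h1, ← whisker_exchange_assoc, a.one_act]
      simp
    · rw [Category.assoc, h2, leftUnitor_hom, whiskerRight_snd_assoc]
  · apply hP.hom_ext
    · simp only [Category.assoc, h1]
      rw [← whisker_exchange_assoc, a.mul_act, ← MonoidalCategory.whiskerLeft_comp_assoc, h1,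
        MonoidalCategory.whiskerLeft_comp_assoc]
      simp
    · simp only [Category.assoc, h2, whiskerLeft_snd_assoc, whiskerRight_snd_assoc,
        associator_hom_snd_snd_assoc]

theorem isUnivCatQuot_baseChange (h : GIT.IsUnivCatQuot a φ) {X' Y' : Over S} {pr : X' ⟶ X}
    {φ' : X' ⟶ Y'} {g : Y' ⟶ Y} (hP : IsPullback pr φ' φ g) (a' : AlgGrp.Action G X')
    (ha : a'.act ≫ pr = (G ◁ pr) ≫ a.act) (hi' : GIT.IsInvariant a' φ') :
    GIT.IsUnivCatQuot a' φ' :=
  ⟨h.2 pr φ' g trivial hP a' ha hi', fun X'' Y'' pr' φ'' g' _ hP' a'' ha' hi'' =>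
    h.2 (pr' ≫ pr) φ'' (g' ≫ g) trivial (hP'.paste_horiz hP) a''
      (by rw [reassoc_of% ha', ha, MonoidalCategory.whiskerLeft_comp_assoc]) hi''⟩

theorem surjective_of_isUnivCatQuot (h : GIT.IsUnivCatQuot a φ) :
    Function.Surjective φ.left.base := by
  intro y
  by_contra hc
  let Y' : Over S := Over.mk (Y.left.fromSpecResidueField y ≫ Y.hom)
  let g : Y' ⟶ Y := Over.homMk (Y.left.fromSpecResidueField y) rfl
  let X' : Over S := Over.mk (pullback.fst φ.left g.left ≫ X.hom)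
  let pr : X' ⟶ X := Over.homMk (pullback.fst φ.left g.left) rfl
  let φ' : X' ⟶ Y' := Over.homMk (pullback.snd φ.left g.left) (by
    change _ = pullback.fst φ.left g.left ≫ X.hom
    rw [← Over.w φ, pullback.condition_assoc, Over.w g])
  have hP : IsPullback pr φ' φ g := isPullback_of_left (IsPullback.of_hasPullback φ.left g.left)
  obtain ⟨a', ha, hi'⟩ := exists_action_baseChange h.1.1 hP
  haveI hX : IsEmpty X'.left := ⟨fun x => hc ⟨pr.left.base x, by
    have : (pr ≫ φ).left.base x = g.left.base (φ'.left.base x) := by rw [hP.w]; rfl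
    refine Eq.trans this ?_
    exact Scheme.fromSpecResidueField_apply _ _⟩⟩
  haveI hGX : IsEmpty (G ⊗ X').left := Function.isEmpty (snd G X').left.base
  let Z : Over S := Over.mk (Scheme.emptyTo S)
  let ψ : X' ⟶ Z := Over.homMk (isInitialOfIsEmpty.to _) (isInitialOfIsEmpty.hom_ext _ _)
  have hψ : GIT.IsInvariant a' ψ := Over.OverMorphism.ext (isInitialOfIsEmpty.hom_ext _ _)
  obtain ⟨χ, -⟩ := (h.2 pr φ' g trivial hP a' ha hi').2 Z ψ hψ
  have pt : (Spec (Y.left.residueField y) : Scheme.{u}) := default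
  exact (show PEmpty from χ.left.base pt).elim

theorem appTop_topIso_inv {T W : Scheme.{u}} {V : W.Opens} (k : T ⟶ V.toScheme) (f : Γ(W, V))
    (e : ⊤ ≤ (k ≫ V.ι) ⁻¹ᵁ V) :
    k.appTop (V.topIso.inv f) = (k ≫ V.ι).appLE V ⊤ e f := by
  rw [← Scheme.Hom.appLE_comp_appLE k V.ι V ⊤ ⊤ (by simp) le_top, CommRingCat.comp_apply]
  have h1 : V.ι.appLE V ⊤ (by simp) = V.topIso.inv := by
    simp only [Scheme.Opens.ι_appLE, Scheme.Opens.topIso_inv]
    exact congrArg W.presheaf.map (Subsingleton.elim _ _)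
  have h2 : k.appLE ⊤ ⊤ le_top = k.appTop := by
    simp [Scheme.Hom.appLE]
  rw [h1, h2]

theorem sections_of_isUnivCatQuot (h : GIT.IsUnivCatQuot a φ) (U : Y.left.Opens) :
    Function.Injective (φ.left.app U) ∧
      Set.range (φ.left.app U) = {f | GIT.IsInvSection a φ U f} := by
  let Y' : Over S := Over.mk (U.ι ≫ Y.hom)
  let g : Y' ⟶ Y := Over.homMk U.ι rfl
  let X' : Over S := Over.mk ((φ.left ⁻¹ᵁ U).ι ≫ X.hom)
  let pr : X' ⟶ X := Over.homMk (φ.left ⁻¹ᵁ U).ι rfl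
  let φ' : X' ⟶ Y' := Over.homMk (φ.left ∣_ U) (by
    change _ = (φ.left ⁻¹ᵁ U).ι ≫ X.hom
    rw [show Y'.hom = U.ι ≫ Y.hom from rfl, morphismRestrict_ι_assoc, Over.w φ])
  have hP : IsPullback pr φ' φ g :=
    isPullback_of_left (isPullback_morphismRestrict φ.left U).flip
  obtain ⟨a', ha, hi'⟩ := exists_action_baseChange h.1.1 hP
  have hcat := h.2 pr φ' g trivial hP a' ha hi'
  let Z : Over S := Over.mk (𝔸(PUnit.{u + 1}; S) ↘ S)
  have hφ : ∀ t : Γ(Y.left, U), φ'.left.appTop (U.topIso.inv t) =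
      (φ.left ⁻¹ᵁ U).topIso.inv (φ.left.app U t) := by
    intro t
    have e₁ : ⊤ ≤ (𝟙 (φ.left ⁻¹ᵁ U).toScheme ≫ (φ.left ⁻¹ᵁ U).ι) ⁻¹ᵁ (φ.left ⁻¹ᵁ U) := by simp
    have := appTop_topIso_inv (𝟙 _) (φ.left.app U t) e₁
    simp only [Scheme.Hom.id_appTop] at this
    refine Eq.trans ?_ this.symm
    have e₂ : ⊤ ≤ ((φ.left ∣_ U) ≫ U.ι) ⁻¹ᵁ U := by simp
    refine (appTop_topIso_inv (φ.left ∣_ U) t e₂).trans ?_
    have : ∀ (k k' : (φ.left ⁻¹ᵁ U).toScheme ⟶ Y.left) (_ : k = k')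
      (e : ⊤ ≤ k ⁻¹ᵁ U) (e' : ⊤ ≤ k' ⁻¹ᵁ U), k.appLE U ⊤ e = k'.appLE U ⊤ e' := by
      rintro k _ rfl e e'; rfl
    rw [this _ ((φ.left ⁻¹ᵁ U).ι ≫ φ.left) (morphismRestrict_ι φ.left U) e₂ (by simp),
      ← Scheme.Hom.appLE_comp_appLE _ φ.left U (φ.left ⁻¹ᵁ U) ⊤ le_rfl (by simp)]
    simp [Scheme.Hom.app_eq_appLE]
  refine ⟨fun s t hst => ?_, subset_antisymm ?_ ?_⟩
  · let χ : Γ(Y.left, U) → (Y' ⟶ Z) := fun s =>
      Over.homMk (AffineSpace.homOfVector Y'.hom fun _ => U.topIso.inv s)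
        (AffineSpace.homOfVector_over _ _)
    have hinv : GIT.IsInvariant a' (φ' ≫ χ t) := by
      rw [GIT.IsInvariant, reassoc_of% (show a'.act ≫ φ' = snd G X' ≫ φ' from hi')]
    have hc : ∀ (i : Γ(Y.left, U)), (φ' ≫ χ i).left.appTop (AffineSpace.coord S PUnit.unit) =
        (φ.left ⁻¹ᵁ U).topIso.inv (φ.left.app U i) := by
      intro i
      rw [Over.comp_left, Scheme.Hom.comp_appTop, CommRingCat.comp_apply, ← hφ]
      congr 1
      exact AffineSpace.homOfVector_appTop_coord _ _ _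
    have : φ' ≫ χ s = φ' ≫ χ t := by
      refine Over.OverMorphism.ext (AffineSpace.hom_ext ?_ fun i => ?_)
      · exact (Over.w (φ' ≫ χ s)).trans (Over.w (φ' ≫ χ t)).symm
      · rcases i with ⟨⟩
        rw [hc, hc, hst]
    have h2 := (hcat.2 Z _ hinv).unique (y₁ := χ s) (y₂ := χ t) this rfl
    have h3 := congrArg (fun k : Y' ⟶ Z => k.left.appTop (AffineSpace.coord S PUnit.unit)) h2
    replace h3 := (AffineSpace.homOfVector_appTop_coord _ _ _).symm.trans
      (h3.trans (AffineSpace.homOfVector_appTop_coord _ _ _))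
    exact (ConcreteCategory.bijective_of_isIso U.topIso.inv).1 h3
  · rintro _ ⟨t, rfl⟩
    have := isInvSection_comp (a := a) (φ := φ) h.1.1 U U le_rfl t
    rwa [← Scheme.Hom.app_eq_appLE] at this
  · intro f hf
    let ψ : X' ⟶ Z :=
      Over.homMk (AffineSpace.homOfVector X'.hom fun _ => (φ.left ⁻¹ᵁ U).topIso.inv f)
        (AffineSpace.homOfVector_over _ _)
    have hψ : GIT.IsInvariant a' ψ := by
      refine Over.OverMorphism.ext (AffineSpace.hom_ext ?_ fun i => ?_)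
      · exact (Over.w (a'.act ≫ ψ)).trans (Over.w (snd G X' ≫ ψ)).symm
      simp only [Over.comp_left, Scheme.Hom.comp_appTop, CommRingCat.comp_apply, ψ,
        Over.homMk_left, AffineSpace.homOfVector_appTop_coord]
      have eW : ⊤ ≤ (G ◁ pr).left ⁻¹ᵁ
          (a.act.left ⁻¹ᵁ (φ.left ⁻¹ᵁ U) ⊓ (snd G X).left ⁻¹ᵁ (φ.left ⁻¹ᵁ U)) := by
        intro w _
        have h1 : a'.act.left ≫ pr.left = (G ◁ pr).left ≫ a.act.left := by
          rw [← Over.comp_left, ← Over.comp_left, ha]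
        have h2 : (snd G X').left ≫ pr.left = (G ◁ pr).left ≫ (snd G X).left := by
          rw [← Over.comp_left, ← Over.comp_left, whiskerLeft_snd]
        refine ⟨?_, ?_⟩
        · change a.act.left.base ((G ◁ pr).left.base w) ∈ φ.left ⁻¹ᵁ U
          rw [← Scheme.Hom.comp_apply, ← h1]
          exact (a'.act.left.base w).2
        · change (snd G X).left.base ((G ◁ pr).left.base w) ∈ φ.left ⁻¹ᵁ U
          rw [← Scheme.Hom.comp_apply, ← h2]
          exact ((snd G X').left.base w).2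
      have key : ∀ (k : (G ⊗ X').left ⟶ (φ.left ⁻¹ᵁ U).toScheme) (m : (G ⊗ X).left ⟶ X.left)
          (e : a.act.left ⁻¹ᵁ (φ.left ⁻¹ᵁ U) ⊓ (snd G X).left ⁻¹ᵁ (φ.left ⁻¹ᵁ U) ≤
            m ⁻¹ᵁ (φ.left ⁻¹ᵁ U)) (_ : k ≫ (φ.left ⁻¹ᵁ U).ι = (G ◁ pr).left ≫ m),
          k.appTop ((φ.left ⁻¹ᵁ U).topIso.inv f) =
            (G ◁ pr).left.appLE _ ⊤ eW (m.appLE _ _ e f) := by
        intro k m e hkm
        rw [appTop_topIso_inv k f (by simp), ← CommRingCat.comp_apply,
          Scheme.Hom.appLE_comp_appLE]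
        congr 1
        have : ∀ (q q' : (G ⊗ X').left ⟶ X.left) (_ : q = q')
          (e : ⊤ ≤ q ⁻¹ᵁ (φ.left ⁻¹ᵁ U)) (e' : ⊤ ≤ q' ⁻¹ᵁ (φ.left ⁻¹ᵁ U)),
            q.appLE _ ⊤ e = q'.appLE _ ⊤ e' := by
          rintro k _ rfl e e'; rfl
        rw [this _ _ hkm]
      rw [key a'.act.left a.act.left inf_le_left (congrArg CommaMorphism.left ha),
        key (snd G X').left (snd G X).left inf_le_right
          (congrArg CommaMorphism.left (whiskerLeft_snd G pr).symm)]
      exact congrArg _ hf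
    obtain ⟨χ, hχ, -⟩ := hcat.2 Z ψ hψ
    refine ⟨U.topIso.hom (χ.left.appTop (AffineSpace.coord S PUnit.unit)), ?_⟩
    apply (ConcreteCategory.bijective_of_isIso (φ.left ⁻¹ᵁ U).topIso.inv).1
    rw [← hφ, ← CommRingCat.comp_apply U.topIso.hom, Iso.hom_inv_id, CommRingCat.id_apply,
      ← CommRingCat.comp_apply, ← Scheme.Hom.comp_appTop, ← Over.comp_left, hχ]
    exact AffineSpace.homOfVector_appTop_coord _ _ _

theorem isUnivGeomQuot_iff (h : GIT.IsUnivCatQuot a φ) :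
    GIT.IsUnivGeomQuot a φ ↔
      GIT.IsUnivSubmersive φ.left ∧ Function.Surjective (GIT.PsiY a φ h.1.1).base := by
  refine ⟨fun hg => ⟨hg.1.subm, hg.1.orbit⟩, fun ⟨hsub, ho⟩ => ⟨⟨h.1.1,
    surjective_of_isUnivCatQuot h, ho, hsub, sections_of_isUnivCatQuot h⟩, ?_⟩⟩
  intro X' Y' pr φ' g _ hP a' ha hi'
  have h' := isUnivCatQuot_baseChange h hP a' ha hi'
  refine ⟨hi', surjective_of_isUnivCatQuot h',
    psiY_surjective_baseChange h.1.1 ho hP a' ha hi', ?_, sections_of_isUnivCatQuot h'⟩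
  exact MorphismProperty.of_isPullback
    (P := MorphismProperty.universally (topologically @IsQuotientMap))
    (isPullback_left hP) hsub

end Groth.Agent.GITQuot
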